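import Cfsg.Agent.Lib.SpinorMatrix
import Cfsg.Agent.Lib.MaxSub.SubspaceMaximalOrth

/-!
Stabilisers of non-degenerate planes are maximal in `Ω` in dimension five, at least five scalars.
-/

set_option autoImplicit false
set_option maxHeartbeats 800000
set_option linter.unusedSectionVars false
set_option linter.style.haveILetI false

namespace CfsgLib.MaxSub.SpFive

open QuadraticMap Module CfsgLib.WittExtension CfsgLib.SpinorNorm CfsgLib.Eichler CfsgLib.MaxSub.Orth
open CfsgLib.OmegaSimple (eich_conj eich_scale eich_mem)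

variable {F V : Type*} [Field F] [AddCommGroup V] [Module F V] [FiniteDimensional F V]
  {Q : QuadraticForm F V}

section finite

variable [Fintype F] (hQ : (polarBilin Q).Nondegenerate) (hn : 5 ≤ finrank F V) (h2 : (2 : F) ≠ 0)

include hQ hn h2

/-- Four reflections with square product of values, or two of equal value. -/
theorem refl_prod_mem : (∀ {a b : V} (ha : Q a ≠ 0) (hb : Q b ≠ 0), Q a = Q b →
      refl Q ha * refl Q hb ∈ Subgroup.closure (Sieg Q)) ∧
    ∀ {a b c d : V} (ha : Q a ≠ 0) (hb : Q b ≠ 0) (hc : Q c ≠ 0) (hd : Q d ≠ 0),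
      IsSquare (Q a * Q b * (Q c * Q d)) →
        refl Q ha * refl Q hb * (refl Q hc * refl Q hd) ∈ Subgroup.closure (Sieg Q) := by
  classical
  haveI : Finite V := Module.finite_of_finite F
  letI : Fintype V := Fintype.ofFinite V
  have hc' : Subgroup.closure (Refl Q) = ⊤ := closure_refl Q hQ (Or.inr (by omega))
  obtain ⟨hcom, -⟩ := SpinorMatrix.commutator_eq Q h2 hQ (by omega) hc'
  rw [OmegaSimple.commutator_eq Q hQ hn] at hcom
  have hF : ringChar F ≠ 2 := fun h => h2 (by haveI := ringChar.of_eq h; exact CharTwo.two_eq_zero)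
  refine ⟨fun {a b} ha hb hab => ?_, fun {a b c d} ha hb hc hd hsq => ?_⟩
  · rw [hcom, MonoidHom.mem_ker, map_mul, SpinorMatrix.phi_refl Q h2 hQ hc',
      SpinorMatrix.phi_refl Q h2 hQ hc', hab, Prod.mk_mul_mk, Prod.mk_eq_one]
    exact ⟨rfl, by split_ifs <;> rfl⟩
  · rw [hcom, MonoidHom.mem_ker, map_mul, map_mul, map_mul, SpinorMatrix.phi_refl Q h2 hQ hc',
      SpinorMatrix.phi_refl Q h2 hQ hc', SpinorMatrix.phi_refl Q h2 hQ hc', SpinorMatrix.phi_refl Q h2 hQ hc',
      Prod.mk_mul_mk, Prod.mk_mul_mk, Prod.mk_mul_mk, Prod.mk_eq_one]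
    refine ⟨rfl, ?_⟩
    rw [← quadraticChar_one_iff_isSquare (mul_ne_zero (mul_ne_zero ha hb) (mul_ne_zero hc hd)),
      map_mul, map_mul, map_mul] at hsq
    simp only [← quadraticChar_one_iff_isSquare ha, ← quadraticChar_one_iff_isSquare hb,
      ← quadraticChar_one_iff_isSquare hc, ← quadraticChar_one_iff_isSquare hd]
    rcases quadraticChar_dichotomy ha with e1 | e1 <;> rcases quadraticChar_dichotomy hb with e2 | e2 <;>
      rcases quadraticChar_dichotomy hc with e3 | e3 <;> rcases quadraticChar_dichotomy hd with e4 | e4 <;>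
        simp [e1, e2, e3, e4] at hsq ⊢

variable {W : Submodule F V} {K : Subgroup (quadIso Q)}
  (hHK : St Q W ⊓ Subgroup.closure (Sieg Q) ≤ K) (hW : ∀ x ∈ W, (∀ y ∈ W, polar Q x y = 0) → x = 0)

include hW hHK

/-- An element fixing a centre of the perpendicular and moving `W` gives one more Eichler
transformation. -/
theorem exists_vector_of_partner (hKG : K ≤ Subgroup.closure (Sieg Q))
    {s : quadIso Q} (hs : s ∈ K) (hsW : s ∉ St Q W)
    {e : V} (heP : e ∈ orth Q W) (he0 : e ≠ 0) (he : Q e = 0) (hse : s.1 e = e)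
    {f : V} (hfP : f ∈ orth Q W) (hf : Q f = 0) (hef : polar Q e f = 1) :
    ∃ v ∈ W, v ≠ 0 ∧ ∀ c : F, InA K e (c • v) := by
  classical
  set P := orth Q W with hPdef
  have hdim : finrank F W + finrank F P = finrank F V := finrank_orth hQ W
  have hinf : ∀ x, x ∈ W → x ∈ P → x = 0 := fun x hx hx' =>
    hW x hx fun y hy => orth_comm hx' hy
  have hsup : ∀ x, ∃ a ∈ W, ∃ b ∈ P, a + b = x := fun x => by
    have h1 := Submodule.finrank_sup_add_finrank_inf_eq W P
    have h2 : W ⊓ P = ⊥ := eq_bot_iff.2 fun x hx => (Submodule.mem_bot F).2 (hinf x hx.1 hx.2)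
    rw [h2, finrank_bot] at h1
    have h3 : W ⊔ P = ⊤ := Submodule.eq_top_of_finrank_eq (by omega)
    exact Submodule.mem_sup.1 (h3 ▸ Submodule.mem_top : x ∈ W ⊔ P)
  have hPn : ∀ x ∈ P, (∀ y ∈ P, polar Q x y = 0) → x = 0 := fun x hx h => hQ.1 x fun z => by
    obtain ⟨a, ha, b, hb, rfl⟩ := hsup z
    show polar Q x (a + b) = 0
    rw [polar_add_right, orth_comm hx ha, h b hb, add_zero]
  have hPA : ∀ {e a : V}, e ∈ P → a ∈ P → e ≠ 0 → Q e = 0 → polar Q e a = 0 → InA K e a :=
    fun he ha he0 hes hea => inA_of_maps hQ hn hHK he0 hes hea fun w hw => by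
      rw [orth_comm he hw, orth_comm ha hw]; simpa using hw
  by_cases hA : ∃ a ∈ P, polar Q e a = 0 ∧ s.1 a ∉ P
  · obtain ⟨a, haP, hea, hsa⟩ := hA
    obtain ⟨w, hw, p, hp, hwp⟩ := hsup (s.1 a)
    have hep : polar Q e p = 0 := by
      have h1 : polar Q e (s.1 a) = 0 := by
        conv_lhs => rw [← hse]
        rw [OrthOrder.polar_map s.2, hea]
      rwa [← hwp, polar_add_right, orth_comm heP hw, zero_add] at h1
    refine ⟨w, hw, fun h => hsa (by rw [← hwp, h, zero_add]; exact hp), fun c => ?_⟩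
    have h1 : polar Q e (c • a) = 0 := by rw [polar_smul_right, hea, smul_zero]
    have h2 : polar Q e ((-c) • p) = 0 := by rw [polar_smul_right, hep, smul_zero]
    have h3 : polar Q e (s.1 (c • a)) = 0 := by
      conv_lhs => rw [← hse]
      rw [OrthOrder.polar_map s.2, h1]
    have hAs : InA K e (s.1 (c • a)) := by
      have := (hPA heP (P.smul_mem c haP) he0 he h1).conj hs
      rwa [hse] at this
    have := hAs.add he h3 h2 (hPA heP (P.smul_mem _ hp) he0 he h2)
    rw [map_smul, ← hwp] at this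
    convert this using 1
    module
  push Not at hA
  have hmap : (P ⊓ LinearMap.ker (polarBilin Q e)).map (s.1 : V →ₗ[F] V) =
      P ⊓ LinearMap.ker (polarBilin Q e) := by
    refine Submodule.eq_of_le_of_finrank_eq ?_ (LinearEquiv.finrank_map_eq _ _)
    rintro _ ⟨a, ha, rfl⟩
    refine ⟨hA a ha.1 ha.2, ?_⟩
    show polar Q e (s.1 a) = 0
    conv_lhs => rw [← hse]
    rw [OrthOrder.polar_map s.2]
    exact ha.2
  -- the image of `W` lies in `W + F e`
  have hsw : ∀ w ∈ W, ∃ w' ∈ W, ∃ l : F, s.1 w = w' + l • e := by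
    intro w hw
    have hperp : ∀ b ∈ P, polar Q e b = 0 → polar Q b (s.1 w) = 0 := fun b hb heb => by
      obtain ⟨a, ha, hab⟩ := hmap.ge (show b ∈ P ⊓ LinearMap.ker (polarBilin Q e) from ⟨hb, heb⟩)
      rw [← hab]
      show polar Q (s.1 a) (s.1 w) = 0
      rw [OrthOrder.polar_map s.2]
      exact orth_comm ha.1 hw
    obtain ⟨w', hw', p, hp, hwp⟩ := hsup (s.1 w)
    refine ⟨w', hw', polar Q f p, ?_⟩
    rw [← hwp]
    congr 1
    refine sub_eq_zero.1 (hPn _ (P.sub_mem hp (P.smul_mem _ heP)) fun b hb => ?_)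
    have hb0 : polar Q e (b - polar Q e b • f) = 0 := by
      rw [polar_sub_right, polar_smul_right, hef, smul_eq_mul, mul_one, sub_self]
    have h1 := hperp _ (P.sub_mem hb (P.smul_mem _ hfP)) hb0
    rw [← hwp, polar_add_right, orth_comm (P.sub_mem hb (P.smul_mem _ hfP)) hw', zero_add,
      polar_sub_left, polar_smul_left, smul_eq_mul] at h1
    rw [polar_sub_left, polar_smul_left, polar_comm Q p b, smul_eq_mul]
    linear_combination h1
  choose w' hw' l hl using hsw
  -- the vector of the functional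
  let B : W →ₗ[F] Module.Dual F W := ((polarBilin Q).comp W.subtype).compl₂ W.subtype
  have hBe : ∀ u z : W, B u z = polar Q u.1 z.1 := fun u z => rfl
  have hlad : ∀ x y : W, w' x.1 x.2 + w' y.1 y.2 = w' (x + y).1 (x + y).2 ∧
      l x.1 x.2 + l y.1 y.2 = l (x + y).1 (x + y).2 := fun x y => by
    have h : s.1 (x.1 + y.1) = w' (x + y).1 (x + y).2 + l (x + y).1 (x + y).2 • e :=
      hl (x + y).1 (x + y).2
    rw [map_add, hl x.1 x.2, hl y.1 y.2] at h
    have h' : (w' x.1 x.2 + w' y.1 y.2 - w' (x + y).1 (x + y).2) =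
        (l (x + y).1 (x + y).2 - l x.1 x.2 - l y.1 y.2) • e := by
      rw [sub_smul, sub_smul]
      rw [← sub_eq_zero] at h ⊢
      rw [← h]; module
    have h0 : w' x.1 x.2 + w' y.1 y.2 - w' (x + y).1 (x + y).2 = 0 :=
      hinf _ (W.sub_mem (W.add_mem (hw' _ _) (hw' _ _)) (hw' _ _)) (h' ▸ P.smul_mem _ heP)
    refine ⟨sub_eq_zero.1 h0, ?_⟩
    rw [h0, eq_comm, smul_eq_zero] at h'
    linear_combination -(h'.resolve_right he0)
  have hlsm : ∀ (c : F) (x : W), c • w' x.1 x.2 = w' (c • x).1 (c • x).2 ∧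
      c * l x.1 x.2 = l (c • x).1 (c • x).2 := fun c x => by
    have h : s.1 (c • x.1) = w' (c • x).1 (c • x).2 + l (c • x).1 (c • x).2 • e :=
      hl (c • x).1 (c • x).2
    rw [map_smul, hl x.1 x.2] at h
    have h' : c • w' x.1 x.2 - w' (c • x).1 (c • x).2 =
        (l (c • x).1 (c • x).2 - c * l x.1 x.2) • e := by
      rw [sub_smul, mul_smul]
      rw [← sub_eq_zero] at h ⊢
      rw [← h]; module
    have h0 : c • w' x.1 x.2 - w' (c • x).1 (c • x).2 = 0 :=
      hinf _ (W.sub_mem (W.smul_mem _ (hw' _ _)) (hw' _ _)) (h' ▸ P.smul_mem _ heP)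
    refine ⟨sub_eq_zero.1 h0, ?_⟩
    rw [h0, eq_comm, smul_eq_zero] at h'
    linear_combination -(h'.resolve_right he0)
  let T : W →ₗ[F] W :=
    { toFun := fun x => ⟨w' x.1 x.2, hw' _ _⟩
      map_add' := fun x y => Subtype.ext (hlad x y).1.symm
      map_smul' := fun c x => Subtype.ext (hlsm c x).1.symm }
  let L : W →ₗ[F] F :=
    { toFun := fun x => l x.1 x.2
      map_add' := fun x y => (hlad x y).2.symm
      map_smul' := fun c x => (hlsm c x).2.symm }
  have hTinj : Function.Injective T := (injective_iff_map_eq_zero T).2 fun x hx => by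
    have h := hl x.1 x.2
    rw [show w' x.1 x.2 = 0 from congrArg Subtype.val hx, zero_add] at h
    refine Subtype.ext (hinf _ x.2 ?_)
    have he' : s.1 x.1 = s.1 (l x.1 x.2 • e) := by rw [h, map_smul, hse]
    rw [s.1.injective he']
    exact P.smul_mem _ heP
  let Te := LinearEquiv.ofBijective T
    ⟨hTinj, LinearMap.injective_iff_surjective.1 hTinj⟩
  obtain ⟨v, hv⟩ := (LinearMap.injective_iff_surjective_of_finrank_eq_finrank
    (Subspace.dual_finrank_eq (K := F) (V := W)).symm).1 ((injective_iff_map_eq_zero B).2 fun x hx =>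
      Subtype.ext (hW x.1 x.2 fun y hy => by
        rw [← hBe x ⟨y, hy⟩, hx, LinearMap.zero_apply])) (-(L ∘ₗ Te.symm.toLinearMap))
  have hev : polar Q e v.1 = 0 := orth_comm heP v.2
  obtain ⟨E, hE⟩ := exists_eich Q he hev
  have hEw : ∀ w (hw : w ∈ W), s.1 w = E.1 (w' w hw) := fun w hw => by
    have h1 := LinearMap.congr_fun hv (Te ⟨w, hw⟩)
    rw [LinearMap.neg_apply, LinearMap.comp_apply, LinearEquiv.coe_coe,
      LinearEquiv.symm_apply_apply, hBe] at h1
    have h2 : polar Q v.1 (w' w hw) = -l w hw := h1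
    rw [hl w hw, hE (w' w hw), orth_comm heP (hw' w hw), h2]
    simp
  have hEG : E ∈ Subgroup.closure (Sieg Q) := eich_mem Q hQ hn he0 he hev hE
  have hst : E⁻¹ * s ∈ St Q W := mem_St fun w hw => by
    show E.1.symm (s.1 w) ∈ W
    rw [hEw w hw, LinearEquiv.symm_apply_apply]
    exact hw' w hw
  have hEK : E ∈ K := by
    have h0 : E⁻¹ * s ∈ K := hHK ⟨hst, Subgroup.mul_mem _ (Subgroup.inv_mem _ hEG) (hKG hs)⟩
    have h1 := K.mul_mem hs (K.inv_mem h0)
    rwa [mul_inv_rev, inv_inv, mul_inv_cancel_left] at h1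
  have hv0 : v.1 ≠ 0 := fun h => hsW (by
    have : E = 1 := eich_unique Q hE (by rw [h]; exact eich_zero Q e)
    rwa [this, inv_one, one_mul] at hst)
  -- squares of scalars
  have hsq : ∀ μ : F, InA K e ((μ * μ) • v.1) := by
    intro μ
    by_cases hμ : μ = 0
    · rw [hμ, mul_zero, zero_smul]; exact inA_zero e
    have hu : Q (e + f) ≠ 0 := by
      rw [QuadraticMap.map_add Q, he, hf, hef]; simp
    have hu' : Q (μ • e + μ⁻¹ • f) = 1 := by
      rw [QuadraticMap.map_add Q, QuadraticMap.map_smul, QuadraticMap.map_smul, polar_smul_left,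
        polar_smul_right, he, hf, hef]
      simp [mul_inv_cancel₀ hμ]
    have hu'0 : Q (μ • e + μ⁻¹ • f) ≠ 0 := by rw [hu']; exact one_ne_zero
    obtain ⟨k, hk, hkv⟩ := OmegaSimple.transitive' Q hQ hn _
      (fun e w he0 he hew g hg => eich_mem Q hQ hn he0 he hew hg) hu'0
      (show Q (μ • e + μ⁻¹ • f) = Q (e + f) by
        rw [hu', QuadraticMap.map_add Q, he, hf, hef]; simp)
    have e1 : refl Q hu = k * refl Q hu'0 * k⁻¹ := by
      rw [conj_refl Q k hu'0 (by rw [hkv]; exact hu)]
      congr 1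
      exact hkv.symm
    set r := refl Q hu'0 * refl Q hu with hr
    have hrG : r ∈ Subgroup.closure (Sieg Q) := by
      have e2 : r = (refl Q hu'0 * k * (refl Q hu'0)⁻¹) * k⁻¹ := by
        rw [hr, e1, refl_inv Q hu'0]; group
      rw [e2]
      exact mul_mem (Subgroup.Normal.conj_mem inferInstance k hk _) (inv_mem hk)
    have hrW : ∀ w ∈ W, r.1 w = w := fun w hw => by
      show (refl Q hu'0).1 ((refl Q hu).1 w) = w
      rw [refl_apply Q hu, polar_add_left, orth_comm heP hw, orth_comm hfP hw, add_zero, mul_zero,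
        neg_zero, zero_smul, add_zero, refl_apply, polar_add_left, polar_smul_left, polar_smul_left,
        orth_comm heP hw, orth_comm hfP hw]
      simp
    have hre : r.1 e = (μ * μ) • e := by
      show (refl Q hu'0).1 ((refl Q hu).1 e) = _
      rw [refl_apply Q hu, polar_add_left, ReflectionGen.pol_self, he, polar_comm Q f e, hef,
        QuadraticMap.map_add Q, he, hf, hef, refl_apply, hu']
      simp only [map_add, map_smul, polar_add_left, polar_add_right, polar_smul_left,
        polar_smul_right, ReflectionGen.pol_self, he, hf, hef, polar_comm Q f e, smul_eq_mul]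
      match_scalars <;> field_simp <;> ring
    have h1 : InA K e v.1 := fun g hg => by rw [eich_unique Q hg hE]; exact hEK
    have h2 := h1.conj (hHK ⟨mem_St fun w hw => by rw [hrW w hw]; exact hw, hrG⟩)
    rw [hre, hrW _ v.2] at h2
    intro g hg
    have hes : polar Q ((μ * μ) • e) v.1 = 0 := by rw [polar_smul_left, hev, smul_zero]
    obtain ⟨g', hg'⟩ := exists_eich Q (e := (μ * μ) • e) (w := v.1)
      (by rw [QuadraticMap.map_smul, he, smul_zero]) hes
    rw [eich_unique Q hg (eich_scale Q _ hg')]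
    exact h2 _ hg'
  refine ⟨v.1, v.2, hv0, fun c => ?_⟩
  by_cases h2 : (2 : F) = 0
  · obtain ⟨t, rfl⟩ := FiniteForms.sqrt_charTwo h2 c
    exact hsq t
  · have hneg : ∀ d : F, InA K e (d • v.1) → InA K e (-d • v.1) := fun d hd g hg => by
      obtain ⟨g', hg'⟩ := exists_eich Q he (show polar Q e (d • v.1) = 0 by
        rw [polar_smul_right, hev, smul_zero])
      have h := eich_add Q he (by rw [polar_smul_right, hev, smul_zero])
        (by rw [polar_smul_right, hev, smul_zero]) hg hg'
      rw [← add_smul, neg_add_cancel, zero_smul] at h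
      have h1 := eich_unique Q h (eich_zero Q e)
      rw [eq_inv_of_mul_eq_one_left h1]
      exact inv_mem (hd _ hg')
    have := InA.add he (by rw [polar_smul_right, hev, smul_zero])
      (by rw [polar_smul_right, hev, smul_zero]) (hsq ((c + 1) / 2)) (hneg _ (hsq ((c - 1) / 2)))
    rw [← add_smul] at this
    convert this using 2
    field_simp
    ring

omit hHK hW in
/-- A hyperbolic pair and a third vector in a non-degenerate three-dimensional subspace. -/
theorem three_data {P : Submodule F V} (hP : ∀ x ∈ P, (∀ y ∈ P, polar Q x y = 0) → x = 0)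
    (hd : finrank F P = 3) {e : V} (he : e ∈ P) (he0 : e ≠ 0) (hes : Q e = 0) :
    ∃ f ∈ P, ∃ a ∈ P, Q f = 0 ∧ polar Q e f = 1 ∧ polar Q e a = 0 ∧ polar Q f a = 0 ∧ Q a ≠ 0 ∧
      ∀ z ∈ P, ∃ t : F, z = polar Q f z • e + polar Q e z • f + t • a := by
  obtain ⟨f', hf, hef'⟩ := Eichler.exists_partner (Q.comp P.subtype) (nondeg_comp hP) (e := ⟨e, he⟩)
    (fun h => he0 (congrArg Subtype.val h)) hes
  have hef : polar Q e f'.1 = 1 := by rw [← hef']; simp [polar]
  have hff : Q f'.1 = 0 := hf
  have hfe : polar Q f'.1 e = 1 := by rw [polar_comm, hef]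
  obtain ⟨a, ⟨⟨haP, hea'⟩, hfa'⟩, ha0⟩ := (Submodule.ne_bot_iff
      (P ⊓ LinearMap.ker (polarBilin Q e) ⊓ LinearMap.ker (polarBilin Q f'.1))).1 fun h => by
    have h1 := finrank_inf_ker P (polarBilin Q e)
    have h3 := finrank_inf_ker (P ⊓ LinearMap.ker (polarBilin Q e)) (polarBilin Q f'.1)
    rw [h, finrank_bot] at h3
    omega
  have hea : polar Q e a = 0 := hea'
  have hfa : polar Q f'.1 a = 0 := hfa'
  have hind : LinearIndependent F ![e, f'.1, a] := by
    rw [Fintype.linearIndependent_iff]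
    intro g hg
    simp [Fin.sum_univ_three] at hg
    have h1 := congrArg (polar Q e) hg
    have h3 := congrArg (polar Q f'.1) hg
    simp [polar_add_right, polar_smul_right, ReflectionGen.pol_self, hes, hff, hef, hfe, hea, hfa] at h1 h3
    have h4 : g 2 • a = 0 := by rw [← hg, h1, h3, zero_smul, zero_smul, zero_add, zero_add]
    intro i
    fin_cases i
    · exact h3
    · exact h1
    · exact (smul_eq_zero.1 h4).resolve_right ha0
  have hspan : Submodule.span F (Set.range ![e, f'.1, a]) = P := by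
    refine Submodule.eq_of_le_of_finrank_eq (Submodule.span_le.2 ?_) ?_
    · rintro _ ⟨i, rfl⟩
      fin_cases i <;> simp [he, haP, f'.2]
    · rw [finrank_span_eq_card hind, Fintype.card_fin, hd]
  have hz : ∀ z ∈ P, ∃ t : F, z = polar Q f'.1 z • e + polar Q e z • f'.1 + t • a := by
    intro z hz
    obtain ⟨c, hc⟩ := (Submodule.mem_span_range_iff_exists_fun F).1 (hspan.ge hz)
    simp [Fin.sum_univ_three] at hc
    refine ⟨c 2, ?_⟩
    rw [← hc]
    simp [polar_add_right, polar_smul_right, ReflectionGen.pol_self, hes, hff, hef, hfe, hea, hfa]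
  refine ⟨f'.1, f'.2, a, haP, hff, hef, hea, hfa, fun h => ha0 (hP a haP fun y hy => ?_), hz⟩
  obtain ⟨t, ht⟩ := hz y hy
  rw [ht]
  simp [polar_add_right, polar_smul_right, ReflectionGen.pol_self, polar_comm Q a e, polar_comm Q a f'.1, hea,
    hfa, h]

omit hHK in
theorem orth_nondeg : ∀ x ∈ orth Q W, (∀ y ∈ orth Q W, polar Q x y = 0) → x = 0 := by
  intro x hx h
  have hinf : W ⊓ orth Q W = ⊥ := eq_bot_iff.2 fun y hy =>
    (Submodule.mem_bot F).2 (hW y hy.1 fun z hz => orth_comm hy.2 hz)
  have h1 := Submodule.finrank_sup_add_finrank_inf_eq W (orth Q W)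
  rw [hinf, finrank_bot, finrank_orth hQ W] at h1
  have h3 : W ⊔ orth Q W = ⊤ := Submodule.eq_top_of_finrank_eq (by omega)
  refine hQ.1 x fun z => ?_
  obtain ⟨a, ha, b, hb, rfl⟩ := Submodule.mem_sup.1 (h3 ▸ Submodule.mem_top : z ∈ W ⊔ orth Q W)
  show polar Q x (a + b) = 0
  rw [polar_add_right, orth_comm hx ha, h b hb, add_zero]

omit hHK in
theorem sum_top : ∀ z, ∃ a ∈ W, ∃ b ∈ orth Q W, a + b = z := fun z => by
  have hinf : W ⊓ orth Q W = ⊥ := eq_bot_iff.2 fun y hy =>
    (Submodule.mem_bot F).2 (hW y hy.1 fun z hz => orth_comm hy.2 hz)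
  have h1 := Submodule.finrank_sup_add_finrank_inf_eq W (orth Q W)
  rw [hinf, finrank_bot, finrank_orth hQ W] at h1
  have h3 : W ⊔ orth Q W = ⊤ := Submodule.eq_top_of_finrank_eq (by omega)
  exact Submodule.mem_sup.1 (h3 ▸ Submodule.mem_top : z ∈ W ⊔ orth Q W)

omit hHK in
/-- An element of the stabiliser, trivial on `W`, moving an anisotropic vector of the perpendicular. -/
theorem exists_moving (hP3 : finrank F (orth Q W) = 3) (hq : ∃ t : F, t ≠ 0 ∧ t * t ≠ 1) {x : V}
    (hx : x ∈ orth Q W) (hQx : Q x ≠ 0) :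
    ∃ h ∈ Subgroup.closure (Sieg Q), (∀ w ∈ W, h.1 w = w) ∧ polar Q (h.1 x) x ≠ 0 ∧
      ∀ μ : F, h.1 x ≠ μ • x := by
  have hPn := orth_nondeg hQ hn h2 hW
  obtain ⟨e₀, he₀P, he₀0, he₀⟩ := exists_singular_in (Q := Q) (S := orth Q W) (by omega)
  obtain ⟨f₀, hf₀P, a₀, ha₀P, hf₀, hef₀, hea₀, hfa₀, hQa₀, hsp₀⟩ := three_data hQ hn h2 hPn hP3 he₀P he₀0 he₀
  obtain ⟨e, heP, he, hA⟩ : ∃ e ∈ orth Q W, Q e = 0 ∧ polar Q e x ≠ 0 := by
    by_cases h1 : polar Q e₀ x = 0
    swap
    · exact ⟨e₀, he₀P, he₀, h1⟩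
    by_cases h3 : polar Q f₀ x = 0
    swap
    · exact ⟨f₀, hf₀P, hf₀, h3⟩
    obtain ⟨c, hc⟩ := hsp₀ x hx
    rw [h1, h3, zero_smul, zero_smul, zero_add, zero_add] at hc
    refine ⟨e₀ + (-Q a₀) • f₀ + a₀, (orth Q W).add_mem ((orth Q W).add_mem he₀P ((orth Q W).smul_mem _ hf₀P)) ha₀P,
      ?_, ?_⟩
    · rw [QuadraticMap.map_add Q (e₀ + (-Q a₀) • f₀), QuadraticMap.map_add Q e₀, QuadraticMap.map_smul,
        polar_add_left, polar_smul_left, polar_smul_right, he₀, hf₀, hef₀, hea₀, hfa₀]
      simp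
    · rw [hc, polar_smul_right, polar_add_left, polar_add_left, polar_smul_left, hea₀, hfa₀,
        ReflectionGen.pol_self]
      simp only [smul_eq_mul, mul_zero, zero_add]
      refine mul_ne_zero (fun h => hQx ?_) (mul_ne_zero h2 hQa₀)
      rw [hc, h, zero_smul, QuadraticMap.map_zero]
  have he0 : e ≠ 0 := fun h => hA (by rw [h, QuadraticMap.polar_zero_left])
  obtain ⟨f, hfP, a, haP, hf, hef, hea, hfa, hQa, -⟩ := three_data hQ hn h2 hPn hP3 heP he0 he
  obtain ⟨t₀, ht₀, ht₀1⟩ := hq
  obtain ⟨t, ht, hval⟩ : ∃ t : F, t ≠ 0 ∧ 2 * Q x - t * t * Q a * (polar Q e x * polar Q e x) ≠ 0 := by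
    by_contra hc
    push Not at hc
    have e1 := hc 1 one_ne_zero
    have e3 := hc t₀ ht₀
    refine mul_ne_zero (mul_ne_zero (sub_ne_zero.2 ht₀1) hQa) (mul_ne_zero hA hA) ?_
    linear_combination e1 - e3
  obtain ⟨h, hh⟩ := exists_eich Q he (show polar Q e (t • a) = 0 by rw [polar_smul_right, hea, smul_zero])
  refine ⟨h, eich_mem Q hQ hn he0 he (by rw [polar_smul_right, hea, smul_zero]) hh, fun w hw => ?_, ?_, ?_⟩
  · rw [hh w, orth_comm heP hw, polar_smul_left, orth_comm haP hw]
    simp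
  · intro h0
    refine hval ?_
    rw [hh x, QuadraticMap.map_smul, polar_smul_left, polar_add_left, polar_add_left, polar_smul_left,
      polar_smul_left, polar_smul_left, ReflectionGen.pol_self] at h0
    simp only [smul_eq_mul] at h0
    linear_combination h0
  · intro μ hμ
    have h1 := congrArg (polar Q e) hμ
    rw [hh x, polar_add_right, polar_add_right, polar_smul_right, polar_smul_right, polar_smul_right,
      polar_smul_right, hea, ReflectionGen.pol_self, he] at h1
    simp only [smul_eq_mul, mul_zero, add_zero] at h1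
    have hμ1 : μ = 1 := (mul_right_cancel₀ hA (by rw [one_mul]; exact h1.symm))
    rw [hμ1, one_smul, hh x, add_eq_left] at hμ
    have h3 := congrArg (polar Q a) hμ
    rw [polar_add_right, polar_smul_right, polar_smul_right, polar_smul_right, ReflectionGen.pol_self,
      polar_comm Q a e, hea, QuadraticMap.polar_zero_right] at h3
    simp only [smul_eq_mul, mul_zero, add_zero] at h3
    exact mul_ne_zero hA (mul_ne_zero ht (mul_ne_zero h2 hQa)) h3

/-- Unless a centre of the perpendicular is fixed by an outer element, the image of `W` is special. -/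
theorem fixer_or (hW2 : finrank F W = 2) (hP3 : finrank F (orth Q W) = 3) (hq : ∃ t : F, t ≠ 0 ∧ t * t ≠ 1)
    {g : quadIso Q} (hg : g ∈ K) (hgW : g ∉ St Q W) :
    (∃ s ∈ K, s ∉ St Q W ∧ ∃ e ∈ orth Q W, e ≠ 0 ∧ Q e = 0 ∧ s.1 e = e) ∨
      W.map (g.1 : V →ₗ[F] V) ≤ orth Q W ∨
        ∃ u ∈ W, ∃ x ∈ orth Q W, Q u ≠ 0 ∧ Q x ≠ 0 ∧
          W.map (g.1 : V →ₗ[F] V) = Submodule.span F ({u, x} : Set V) := by
  classical
  refine or_iff_not_imp_left.2 fun hno => ?_
  have hPn := orth_nondeg hQ hn h2 hW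
  have hinf : ∀ x, x ∈ W → x ∈ orth Q W → x = 0 := fun x hx hx' => hW x hx fun y hy => orth_comm hx' hy
  obtain ⟨e, heP, he0, he, heW⟩ : ∃ e ∈ orth Q W, e ≠ 0 ∧ Q e = 0 ∧ g.1 e ∉ orth Q W := by
    by_contra hc
    push Not at hc
    obtain ⟨e, heP, he0, he⟩ := exists_singular_in (Q := Q) (S := orth Q W) (by omega)
    obtain ⟨f, hfP, a, haP, hf, hef, hea, hfa, hQa, hsp⟩ := three_data hQ hn h2 hPn hP3 heP he0 he
    have hf0 : f ≠ 0 := fun h => by simp [h] at hef
    have h1 := hc e heP he0 he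
    have h3 := hc f hfP hf0 hf
    have hga : g.1 a ∈ orth Q W := by
      have hv := hc (e + (-Q a) • f + a) ((orth Q W).add_mem ((orth Q W).add_mem heP ((orth Q W).smul_mem _ hfP)) haP)
        (fun h => by
          have := congrArg (polar Q f) h
          simp [polar_add_right, polar_smul_right, ReflectionGen.pol_self, hf, hfa, polar_comm Q f e, hef] at this)
        (by
          rw [QuadraticMap.map_add Q (e + (-Q a) • f), QuadraticMap.map_add Q e, QuadraticMap.map_smul,
            polar_add_left, polar_smul_left, polar_smul_right, he, hf, hef, hea, hfa]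
          simp)
      rw [map_add, map_add, map_smul] at hv
      have := (orth Q W).sub_mem hv ((orth Q W).add_mem h1 ((orth Q W).smul_mem (-Q a) h3))
      simpa using this
    refine hgW (St_orth_eq hQ W ▸ mem_St fun z hz => ?_)
    obtain ⟨t, ht⟩ := hsp z hz
    rw [ht, map_add, map_add, map_smul, map_smul, map_smul]
    exact (orth Q W).add_mem ((orth Q W).add_mem ((orth Q W).smul_mem _ h1) ((orth Q W).smul_mem _ h3))
      ((orth Q W).smul_mem _ hga)
  obtain ⟨w, hw, p, hp, hwp⟩ := sum_top hQ hn h2 hW (g.1 e)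
  have hw0 : w ≠ 0 := fun h => heW (by rw [← hwp, h, zero_add]; exact hp)
  set W' := W.map (g.1 : V →ₗ[F] V) with hW'
  have hW'2 : finrank F W' = 2 := by rw [hW', LinearEquiv.finrank_map_eq, hW2]
  have hW'n : ∀ z ∈ W', (∀ y ∈ W', polar Q z y = 0) → z = 0 := by
    rintro _ ⟨z, hz, rfl⟩ h
    have : z = 0 := hW z hz fun y hy => by
      rw [← OrthOrder.polar_map g.2]
      exact h _ (Submodule.mem_map_of_mem hy)
    show g.1 z = 0
    rw [this, map_zero]
  have hperp : ∀ z ∈ W', polar Q (w + p) z = 0 := by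
    rintro _ ⟨z, hz, rfl⟩
    rw [hwp]
    show polar Q (g.1 e) (g.1 z) = 0
    rw [OrthOrder.polar_map g.2]
    exact orth_comm heP hz
  have hpres : ∀ h ∈ Subgroup.closure (Sieg Q), (∀ x ∈ W, h.1 x ∈ W) → h.1 (w + p) = w + p →
      ∀ z ∈ W', h.1 z ∈ W' := by
    intro h hh hhW hfix z hz
    have hhK : h ∈ K := hHK ⟨mem_St hhW, hh⟩
    by_contra hzW
    refine hno ⟨g⁻¹ * h * g, mul_mem (mul_mem (inv_mem hg) hhK) hg, fun hs => hzW ?_, e, heP, he0, he, ?_⟩
    · obtain ⟨z₀, hz₀, rfl⟩ := hz
      have h1 := maps_of_mem hs hz₀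
      refine ⟨(g⁻¹ * h * g).1 z₀, h1, ?_⟩
      show g.1 (g.1.symm (h.1 (g.1 z₀))) = _
      rw [LinearEquiv.apply_symm_apply]
      rfl
    · show g.1.symm (h.1 (g.1 e)) = e
      rw [← hwp, hfix, hwp, LinearEquiv.symm_apply_apply]
  have hQwp : Q w + Q p = 0 := by
    have h : Q (g.1 e) = 0 := by rw [g.2, he]
    rwa [← hwp, QuadraticMap.map_add Q, polar_comm, orth_comm hp hw, add_zero] at h
  by_cases hQp : Q p = 0
  · -- a singular axis is impossible
    exfalso
    have hQw : Q w = 0 := by rw [hQp, add_zero] at hQwp; exact hQwp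
    obtain ⟨r, hrP, hr0, hr, hpr⟩ : ∃ r ∈ orth Q W, r ≠ 0 ∧ Q r = 0 ∧ ∃ c : F, p = c • r := by
      by_cases hp0 : p = 0
      · obtain ⟨r, hrP, hr0, hr⟩ := exists_singular_in (Q := Q) (S := orth Q W) (by omega)
        exact ⟨r, hrP, hr0, hr, 0, by rw [hp0, zero_smul]⟩
      · exact ⟨p, hp, hp0, hQp, 1, by rw [one_smul]⟩
    obtain ⟨c, rfl⟩ := hpr
    obtain ⟨f, hfP, a, haP, hf, hrf, hra, hfa, hQa, hsp⟩ := three_data hQ hn h2 hPn hP3 hrP hr0 hr
    have hd : ∀ d : F, ∀ z ∈ W',
        (d * polar Q r z) • a + (-(d * polar Q a z) - d * d * Q a * polar Q r z) • r ∈ W' := by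
      intro d z hz
      have hrd : polar Q r (d • a) = 0 := by rw [polar_smul_right, hra, smul_zero]
      obtain ⟨h, hh⟩ := exists_eich Q hr hrd
      have h1 := hpres h (eich_mem Q hQ hn hr0 hr hrd hh) (fun x hx => by
          rw [hh x, orth_comm hrP hx, polar_smul_left, orth_comm haP hx]
          simpa using hx)
        (by
          rw [hh (w + c • r), polar_add_right, polar_add_right, polar_smul_right, polar_smul_right,
            orth_comm hrP hw, orth_comm ((orth Q W).smul_mem d haP) hw, ReflectionGen.pol_self, hr,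
            polar_comm Q (d • a) r, hrd]
          simp) z hz
      rw [hh z] at h1
      have h3 := W'.sub_mem h1 hz
      convert h3 using 1
      rw [add_sub_cancel_left, QuadraticMap.map_smul, polar_smul_left]
      simp only [smul_eq_mul]
      module
    have hc0 : ∀ z ∈ W', polar Q r z = 0 := by
      intro z hz
      by_contra hne
      have h1 := hd 1 z hz
      have h3 := hd 2 z hz
      have hrW : r ∈ W' := by
        have h4 := W'.sub_mem h3 (W'.smul_mem (2 : F) h1)
        have h5 : (-2 * Q a * polar Q r z) • r ∈ W' := by convert h4 using 1; module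
        exact (W'.smul_mem_iff (mul_ne_zero (mul_ne_zero (neg_ne_zero.2 h2) hQa) hne)).1 h5
      have haW : a ∈ W' := by
        have h4 := W'.sub_mem h1 (W'.smul_mem (-(1 * polar Q a z) - 1 * 1 * Q a * polar Q r z) hrW)
        rw [add_sub_cancel_right, one_mul] at h4
        exact (W'.smul_mem_iff hne).1 h4
      have hind : LinearIndependent F ![r, a] := by
        rw [LinearIndependent.pair_iff]
        intro α β hαβ
        have h := congrArg (polar Q a) hαβ
        rw [polar_add_right, polar_smul_right, polar_smul_right, polar_comm Q a r, hra, ReflectionGen.pol_self,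
          QuadraticMap.polar_zero_right, smul_zero, zero_add, smul_eq_zero] at h
        have hβ := h.resolve_right (mul_ne_zero h2 hQa)
        rw [hβ, zero_smul, add_zero] at hαβ
        exact ⟨(smul_eq_zero.1 hαβ).resolve_right hr0, hβ⟩
      have hspan : W' = Submodule.span F (Set.range ![r, a]) := by
        refine (Submodule.eq_of_le_of_finrank_eq (Submodule.span_le.2 ?_) ?_).symm
        · rintro _ ⟨i, rfl⟩; fin_cases i <;> assumption
        · rw [finrank_span_eq_card hind, Fintype.card_fin, hW'2]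
      refine hr0 (hW'n r hrW fun y hy => ?_)
      rw [hspan] at hy
      obtain ⟨k, rfl⟩ := (Submodule.mem_span_range_iff_exists_fun F).1 hy
      simp [Fin.sum_univ_two, polar_add_right, polar_smul_right, ReflectionGen.pol_self, hr, hra]
    have ha0 : ∀ z ∈ W', polar Q a z = 0 := by
      intro z hz
      by_contra hne
      have h1 := hd 1 z hz
      rw [hc0 z hz] at h1
      simp only [mul_zero, zero_smul, zero_add, sub_zero, one_mul] at h1
      have hrW : r ∈ W' := (W'.smul_mem_iff (neg_ne_zero.2 hne)).1 h1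
      exact hr0 (hW'n r hrW hc0)
    -- the image is totally singular
    have hform : ∀ z ∈ W', ∃ α β : F, z = α • w + β • r := by
      intro z hz
      obtain ⟨zw, hzw, zp, hzp, rfl⟩ := sum_top hQ hn h2 hW z
      obtain ⟨t, ht⟩ := hsp zp hzp
      have e1 := hc0 _ hz
      rw [polar_add_right, orth_comm hrP hzw, zero_add] at e1
      have e3 := ha0 _ hz
      rw [polar_add_right, orth_comm haP hzw, zero_add, ht, e1, zero_smul, add_zero, polar_add_right,
        polar_smul_right, polar_smul_right, polar_comm Q a r, hra, smul_zero, zero_add, ReflectionGen.pol_self,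
        smul_eq_zero] at e3
      rw [e3.resolve_right (mul_ne_zero h2 hQa), zero_smul, add_zero, e1, zero_smul, add_zero] at ht
      have e4 := hperp _ hz
      rw [ht, polar_add_left, polar_add_right, polar_add_right, polar_smul_right, polar_smul_left,
        polar_smul_left, polar_smul_right, polar_comm Q r zw, ReflectionGen.pol_self, hr] at e4
      rw [show polar Q w r = 0 from hrP w hw, show polar Q zw r = 0 from hrP zw hzw] at e4
      simp only [smul_zero, mul_zero, add_zero] at e4
      -- the vectors of `W` perpendicular to `w`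
      by_contra hc'
      push Not at hc'
      have hli : ∀ α : F, zw ≠ α • w := fun α h => hc' α (polar Q f zp) (by rw [h, ← ht])
      refine hw0 (hW w hw fun y hy => ?_)
      have hind : LinearIndependent F ![w, zw] := by
        rw [LinearIndependent.pair_iff]
        intro α β hαβ
        by_cases hβ : β = 0
        · rw [hβ, zero_smul, add_zero] at hαβ
          exact ⟨(smul_eq_zero.1 hαβ).resolve_right hw0, hβ⟩
        · exact absurd (show zw = (-(β⁻¹ * α)) • w by
            rw [neg_smul, mul_smul, eq_neg_of_add_eq_zero_left hαβ, smul_neg, neg_neg, inv_smul_smul₀ hβ]) (hli _)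
      have hspan : W = Submodule.span F (Set.range ![w, zw]) := by
        refine (Submodule.eq_of_le_of_finrank_eq (Submodule.span_le.2 ?_) ?_).symm
        · rintro _ ⟨i, rfl⟩; fin_cases i <;> assumption
        · rw [finrank_span_eq_card hind, Fintype.card_fin, hW2]
      rw [hspan] at hy
      obtain ⟨k, rfl⟩ := (Submodule.mem_span_range_iff_exists_fun F).1 hy
      simp [Fin.sum_univ_two, polar_add_right, polar_smul_right, ReflectionGen.pol_self, hQw, e4]
    obtain ⟨z₀, hz₀, hz₀0⟩ := Submodule.exists_mem_ne_zero_of_ne_bot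
      (show W' ≠ ⊥ from fun h => by rw [h, finrank_bot] at hW'2; omega)
    refine hz₀0 (hW'n z₀ hz₀ fun y hy => polar_eq_zero_of_sing (W := W') ?_ hz₀ hy)
    intro z hz
    obtain ⟨α, β, rfl⟩ := hform z hz
    rw [QuadraticMap.map_add Q, QuadraticMap.map_smul, QuadraticMap.map_smul, hQw, hr, polar_smul_left,
      polar_smul_right, show polar Q w r = 0 from hrP w hw]
    simp
  -- an anisotropic axis
  have hQw : Q w ≠ 0 := fun h => hQp (by linear_combination hQwp - h)
  have hww : polar Q w w ≠ 0 := by rw [ReflectionGen.pol_self]; exact mul_ne_zero h2 hQw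
  have hpp : polar Q p p ≠ 0 := by rw [ReflectionGen.pol_self]; exact mul_ne_zero h2 hQp
  obtain ⟨u, ⟨huW, hwu'⟩, hu0⟩ := (Submodule.ne_bot_iff (W ⊓ LinearMap.ker (polarBilin Q w))).1 fun h => by
    have h1 := finrank_inf_ker W (polarBilin Q w)
    rw [h, finrank_bot] at h1
    omega
  have hwu : polar Q w u = 0 := hwu'
  have hWsp : ∀ z ∈ W, ∃ α β : F, z = α • w + β • u := by
    intro z hz
    have hind : LinearIndependent F ![w, u] := by
      rw [LinearIndependent.pair_iff]
      intro α β hαβ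
      have h := congrArg (polar Q w) hαβ
      rw [polar_add_right, polar_smul_right, polar_smul_right, hwu, QuadraticMap.polar_zero_right, smul_zero,
        add_zero, smul_eq_zero] at h
      rw [h.resolve_right hww, zero_smul, zero_add] at hαβ
      exact ⟨h.resolve_right hww, (smul_eq_zero.1 hαβ).resolve_right hu0⟩
    have hspan : W = Submodule.span F (Set.range ![w, u]) := by
      refine (Submodule.eq_of_le_of_finrank_eq (Submodule.span_le.2 ?_) ?_).symm
      · rintro _ ⟨i, rfl⟩; fin_cases i <;> assumption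
      · rw [finrank_span_eq_card hind, Fintype.card_fin, hW2]
    rw [hspan] at hz
    obtain ⟨k, hk⟩ := (Submodule.mem_span_range_iff_exists_fun F).1 hz
    exact ⟨k 0, k 1, by rw [← hk]; simp [Fin.sum_univ_two]⟩
  have hQu : Q u ≠ 0 := fun h => hu0 (hW u huW fun y hy => by
    obtain ⟨α, β, rfl⟩ := hWsp y hy
    rw [polar_add_right, polar_smul_right, polar_smul_right, polar_comm, hwu, ReflectionGen.pol_self, h]
    simp)
  set R := orth Q W ⊓ LinearMap.ker (polarBilin Q p) with hR
  have hRmem : ∀ r, r ∈ R ↔ r ∈ orth Q W ∧ polar Q p r = 0 := fun r => Iff.rfl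
  have hPsp : ∀ z ∈ orth Q W, ∃ α : F, ∃ r ∈ R, z = α • p + r := fun z hz =>
    ⟨polar Q p z / polar Q p p, z - (polar Q p z / polar Q p p) • p,
      (hRmem _).2 ⟨(orth Q W).sub_mem hz ((orth Q W).smul_mem _ hp),
        by rw [polar_sub_right, polar_smul_right, smul_eq_mul, div_mul_cancel₀ _ hpp, sub_self]⟩, by abel⟩
  have hRn : ∀ r ∈ R, (∀ y ∈ R, polar Q r y = 0) → r = 0 := fun r hr h =>
    hPn r hr.1 fun y hy => by
      obtain ⟨α, r', hr', rfl⟩ := hPsp y hy
      rw [polar_add_right, polar_smul_right, polar_comm Q r p, show polar Q p r = 0 from hr.2, h r' hr']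
      simp
  have hRd : finrank F R = 2 := by
    refine le_antisymm ?_ ?_
    · by_contra hlt
      have hle : R ≤ orth Q W := inf_le_left
      have h1 : finrank F R = 3 := le_antisymm (hP3 ▸ Submodule.finrank_mono hle) (by omega)
      have heq := Submodule.eq_of_le_of_finrank_eq hle (h1.trans hP3.symm)
      exact hpp ((hRmem p).1 (heq.ge hp)).2
    · have h1 := finrank_inf_ker (orth Q W) (polarBilin Q p)
      rw [← hR] at h1
      omega
  obtain ⟨x₀', hx₀'⟩ := exists_value (Q.comp R.subtype) (nondeg_comp hRn) (by rw [hRd]) hQu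
  obtain ⟨x₀, hx₀R, hQx₀⟩ : ∃ x₀ ∈ R, Q x₀ = Q u := ⟨x₀'.1, x₀'.2, hx₀'⟩
  have hx₀0 : polar Q x₀ x₀ ≠ 0 := by rw [ReflectionGen.pol_self, hQx₀]; exact mul_ne_zero h2 hQu
  obtain ⟨y₀, ⟨hy₀R, hxy'⟩, hy₀0⟩ := (Submodule.ne_bot_iff (R ⊓ LinearMap.ker (polarBilin Q x₀))).1 fun h => by
    have h1 := finrank_inf_ker R (polarBilin Q x₀)
    rw [h, finrank_bot] at h1
    omega
  have hxy : polar Q x₀ y₀ = 0 := hxy'
  have hRsp : ∀ r ∈ R, ∃ α β : F, r = α • x₀ + β • y₀ := by
    intro z hz
    have hind : LinearIndependent F ![x₀, y₀] := by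
      rw [LinearIndependent.pair_iff]
      intro α β hαβ
      have h := congrArg (polar Q x₀) hαβ
      rw [polar_add_right, polar_smul_right, polar_smul_right, hxy, QuadraticMap.polar_zero_right, smul_zero,
        add_zero, smul_eq_zero] at h
      rw [h.resolve_right hx₀0, zero_smul, zero_add] at hαβ
      exact ⟨h.resolve_right hx₀0, (smul_eq_zero.1 hαβ).resolve_right hy₀0⟩
    have hspan : R = Submodule.span F (Set.range ![x₀, y₀]) := by
      refine (Submodule.eq_of_le_of_finrank_eq (Submodule.span_le.2 ?_) ?_).symm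
      · rintro _ ⟨i, rfl⟩; fin_cases i <;> assumption
      · rw [finrank_span_eq_card hind, Fintype.card_fin, hRd]
    rw [hspan] at hz
    obtain ⟨k, hk⟩ := (Submodule.mem_span_range_iff_exists_fun F).1 hz
    exact ⟨k 0, k 1, by rw [← hk]; simp [Fin.sum_univ_two]⟩
  -- a second vector of the same value
  obtain ⟨t₀, ht₀, ht₀1⟩ := hq
  have hQy₀ : Q y₀ ≠ 0 := fun h => hy₀0 (hRn y₀ hy₀R fun y hy => by
    obtain ⟨α, β, rfl⟩ := hRsp y hy
    rw [polar_add_right, polar_smul_right, polar_smul_right, polar_comm, hxy, ReflectionGen.pol_self, h]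
    simp)
  obtain ⟨t, ht, hta⟩ : ∃ t : F, t ≠ 0 ∧ Q (x₀ + t • y₀) ≠ 0 := by
    by_contra hc
    push Not at hc
    have e1 := hc 1 one_ne_zero
    have e3 := hc t₀ ht₀
    rw [QuadraticMap.map_add Q, QuadraticMap.map_smul, polar_smul_right, hxy] at e1 e3
    simp only [smul_eq_mul, mul_zero, add_zero, one_mul] at e1 e3
    exact mul_ne_zero (sub_ne_zero.2 ht₀1) hQy₀ (by linear_combination e3 - e1)
  set x₁ := (refl Q hta).1 x₀ with hx₁
  set k₁ := (Q (x₀ + t • y₀))⁻¹ * polar Q (x₀ + t • y₀) x₀ with hk₁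
  have hk₁0 : k₁ ≠ 0 := by
    refine mul_ne_zero (inv_ne_zero hta) ?_
    rw [polar_add_left, polar_smul_left, polar_comm Q y₀ x₀, hxy, smul_zero, add_zero]
    exact hx₀0
  have hx₁v : x₁ = x₀ + (-k₁) • (x₀ + t • y₀) := by rw [hx₁, refl_apply]
  have hx₁R : x₁ ∈ R := hx₁v ▸ R.add_mem hx₀R (R.smul_mem _ (R.add_mem hx₀R (R.smul_mem t hy₀R)))
  have hQx₁ : Q x₁ = Q u := by rw [hx₁, (refl Q hta).2, hQx₀]
  have hboth : ∀ r ∈ R, polar Q x₀ r = 0 → polar Q x₁ r = 0 → r = 0 := by
    intro r hr h0 h1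
    refine hRn r hr fun y hy => ?_
    rw [hx₁v, polar_add_left, polar_smul_left, polar_add_left, polar_smul_left, h0] at h1
    simp only [zero_add, smul_eq_mul, mul_eq_zero, neg_eq_zero, hk₁0, ht, false_or] at h1
    obtain ⟨α, β, rfl⟩ := hRsp y hy
    rw [polar_add_right, polar_smul_right, polar_smul_right, polar_comm Q r, polar_comm Q r, h0, h1]
    simp
  -- the involutions
  have hinv : ∀ x ∈ R, Q x = Q u → ∀ z ∈ W', polar Q u z • u + polar Q x z • x ∈ W' := by
    intro x hx hQx z hz
    have hQx0 : Q x ≠ 0 := hQx ▸ hQu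
    have hxP : x ∈ orth Q W := hx.1
    have happ : ∀ y, (refl Q hQu * refl Q hQx0).1 y = y + (-((Q x)⁻¹ * polar Q x y)) • x +
        (-((Q u)⁻¹ * polar Q u y)) • u := fun y => by
      show (refl Q hQu).1 ((refl Q hQx0).1 y) = _
      rw [refl_apply Q hQx0, refl_apply, polar_add_right, polar_smul_right, show polar Q u x = 0 from hxP u huW,
        smul_zero, add_zero]
    have h1 := hpres _ ((refl_prod_mem hQ hn h2).1 hQu hQx0 hQx.symm) (fun y hy => by
        rw [happ, orth_comm hxP hy, mul_zero, neg_zero, zero_smul, add_zero]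
        exact W.add_mem hy (W.smul_mem _ huW))
      (by
        rw [happ, polar_add_right, polar_add_right, orth_comm hxP hw, polar_comm Q x p, show polar Q p x = 0 from hx.2,
          polar_comm Q u w, hwu, show polar Q u p = 0 from hp u huW]
        simp) z hz
    rw [happ] at h1
    have h3 := W'.smul_mem (-Q u) (W'.sub_mem h1 hz)
    convert h3 using 1
    rw [hQx]
    match_scalars <;> field_simp
    all_goals ring
  have hpp' : ∀ z, z ∈ W' → polar Q u z = 0 → polar Q x₀ z = 0 → polar Q x₁ z = 0 →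
      ∃ c : F, z = c • (w + p) := by
    intro z hz hu' h0 h1
    obtain ⟨zw, hzw, zp, hzp, rfl⟩ := sum_top hQ hn h2 hW z
    obtain ⟨α, β, rfl⟩ := hWsp zw hzw
    obtain ⟨γ, r, hr, rfl⟩ := hPsp zp hzp
    simp only [polar_add_right, polar_smul_right, polar_comm Q u w, hwu, show polar Q u p = 0 from hp u huW,
      show polar Q u r = 0 from hr.1 u huW, ReflectionGen.pol_self, smul_zero, smul_eq_mul, mul_zero, zero_add,
      add_zero, mul_eq_zero, h2, hQu, or_false, false_or] at hu'
    rw [hu', zero_smul, add_zero] at hz h0 h1 ⊢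
    have hx₀P : x₀ ∈ orth Q W := hx₀R.1
    have hx₁P : x₁ ∈ orth Q W := hx₁R.1
    rw [polar_add_right, polar_smul_right, orth_comm hx₀P hw, polar_add_right, polar_smul_right,
      polar_comm Q x₀ p, show polar Q p x₀ = 0 from hx₀R.2] at h0
    rw [polar_add_right, polar_smul_right, orth_comm hx₁P hw, polar_add_right, polar_smul_right,
      polar_comm Q x₁ p, show polar Q p x₁ = 0 from hx₁R.2] at h1
    simp only [smul_zero, zero_add] at h0 h1
    rw [hboth r hr h0 h1, add_zero] at hz ⊢
    have h3 := hperp _ hz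
    simp only [polar_add_left, polar_add_right, polar_smul_right, ReflectionGen.pol_self,
      show polar Q w p = 0 from hp w hw, polar_comm Q p w, smul_eq_mul, mul_zero, zero_add, add_zero] at h3
    refine ⟨α, ?_⟩
    have : γ = α := mul_left_cancel₀ (mul_ne_zero h2 hQp) (by linear_combination h3 - (2 * α) * hQwp)
    rw [this, smul_add]
  have hQe : Q (w + p) = 0 := by rw [hwp, g.2, he]
  -- a vector of the plane with a perpendicular complement
  have hcompl : ∀ a ∈ W', Q a ≠ 0 → ∃ z ∈ W', z ≠ 0 ∧ polar Q a z = 0 ∧ W' = Submodule.span F ({a, z} : Set V) ∧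
      Q z ≠ 0 := by
    intro a ha hQa
    have haa : polar Q a a ≠ 0 := by rw [ReflectionGen.pol_self]; exact mul_ne_zero h2 hQa
    obtain ⟨z, ⟨hz, haz'⟩, hz0⟩ := (Submodule.ne_bot_iff (W' ⊓ LinearMap.ker (polarBilin Q a))).1 fun h => by
      have h1 := finrank_inf_ker W' (polarBilin Q a)
      rw [h, finrank_bot] at h1
      omega
    have haz : polar Q a z = 0 := haz'
    have hind : LinearIndependent F ![a, z] := by
      rw [LinearIndependent.pair_iff]
      intro α β hαβ
      have h := congrArg (polar Q a) hαβ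
      rw [polar_add_right, polar_smul_right, polar_smul_right, haz, QuadraticMap.polar_zero_right, smul_zero,
        add_zero, smul_eq_zero] at h
      rw [h.resolve_right haa, zero_smul, zero_add] at hαβ
      exact ⟨h.resolve_right haa, (smul_eq_zero.1 hαβ).resolve_right hz0⟩
    have hspan : W' = Submodule.span F ({a, z} : Set V) := by
      refine (Submodule.eq_of_le_of_finrank_eq (Submodule.span_le.2
        (Set.insert_subset_iff.2 ⟨ha, Set.singleton_subset_iff.2 hz⟩)) ?_).symm
      have h := finrank_span_eq_card hind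
      rw [Fintype.card_fin, Matrix.range_cons, Matrix.range_cons, Matrix.range_empty, Set.union_empty,
        Set.singleton_union] at h
      rw [h, hW'2]
    refine ⟨z, hz, hz0, haz, hspan, fun h => hz0 (hW'n z hz fun y hy => ?_)⟩
    rw [hspan] at hy
    obtain ⟨α, β, rfl⟩ := Submodule.mem_span_pair.1 hy
    rw [polar_add_right, polar_smul_right, polar_smul_right, polar_comm Q z a, haz, ReflectionGen.pol_self, h]
    simp
  have htwo : ∀ a ∈ W', Q a ≠ 0 → ∀ x ∈ R, x = x₀ ∨ x = x₁ → a = u ∨ a = x → u ∈ W' → x ∈ W' →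
      ∃ u' ∈ W, ∃ x' ∈ orth Q W, Q u' ≠ 0 ∧ Q x' ≠ 0 ∧ W' = Submodule.span F ({u', x'} : Set V) := by
    intro a ha _ x hx hxc _ hu hxW
    have hQx : Q x ≠ 0 := by rcases hxc with rfl | rfl <;> simpa [hQx₀, hQx₁] using hQu
    refine ⟨u, huW, x, hx.1, hQu, hQx, (Submodule.eq_of_le_of_finrank_eq (Submodule.span_le.2
      (Set.insert_subset_iff.2 ⟨hu, Set.singleton_subset_iff.2 hxW⟩)) ?_).symm⟩
    have hind : LinearIndependent F ![u, x] := by
      rw [LinearIndependent.pair_iff]
      intro α β hαβ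
      have h := congrArg (polar Q u) hαβ
      rw [polar_add_right, polar_smul_right, polar_smul_right, show polar Q u x = 0 from hx.1 u huW,
        ReflectionGen.pol_self, QuadraticMap.polar_zero_right, smul_zero, add_zero, smul_eq_zero] at h
      have hα := h.resolve_right (mul_ne_zero h2 hQu)
      rw [hα, zero_smul, zero_add] at hαβ
      exact ⟨hα, (smul_eq_zero.1 hαβ).resolve_right (fun h0 => hQx (by rw [h0, QuadraticMap.map_zero]))⟩
    have h := finrank_span_eq_card hind
    rw [Fintype.card_fin, Matrix.range_cons, Matrix.range_cons, Matrix.range_empty, Set.union_empty,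
      Set.singleton_union] at h
    rw [h, hW'2]
  by_cases hβ : ∃ z ∈ W', polar Q u z ≠ 0
  · right
    obtain ⟨z, hz, hzu⟩ := hβ
    have huW' : u ∈ W' := by
      have h0 := hinv x₀ hx₀R hQx₀ z hz
      have h1 := hinv x₁ hx₁R hQx₁ z hz
      have hr : polar Q x₀ z • x₀ - polar Q x₁ z • x₁ ∈ W' := by
        convert W'.sub_mem h0 h1 using 1; abel
      by_cases hr0 : polar Q x₀ z = 0
      · rw [hr0, zero_smul, add_zero] at h0
        exact (W'.smul_mem_iff hzu).1 h0
      by_cases hr1 : polar Q x₁ z = 0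
      · rw [hr1, zero_smul, add_zero] at h1
        exact (W'.smul_mem_iff hzu).1 h1
      have hrR : polar Q x₀ z • x₀ - polar Q x₁ z • x₁ ∈ R := R.sub_mem (R.smul_mem _ hx₀R) (R.smul_mem _ hx₁R)
      have hxi : ∀ x ∈ R, Q x = Q u → polar Q x (polar Q x₀ z • x₀ - polar Q x₁ z • x₁) ≠ 0 → x ∈ W' := by
        intro x hx hQx hne
        have h := hinv x hx hQx _ hr
        rw [show polar Q u (polar Q x₀ z • x₀ - polar Q x₁ z • x₁) = 0 from hrR.1 u huW, zero_smul, zero_add] at h
        exact (W'.smul_mem_iff hne).1 h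
      have hrne : polar Q x₀ z • x₀ - polar Q x₁ z • x₁ ≠ 0 := fun h => by
        have hlin : ∀ μ : F, x₀ ≠ μ • x₁ := fun μ e => by
          have e' : polar Q x₀ y₀ = μ * polar Q x₁ y₀ := by rw [e, polar_smul_left]; rfl
          rw [hxy, hx₁v, polar_add_left, polar_smul_left, polar_add_left, polar_smul_left, hxy,
            ReflectionGen.pol_self] at e'
          simp [hk₁0, ht, h2, hQy₀] at e'
          rw [e', zero_smul] at e
          exact hQu (by rw [← hQx₀, e, QuadraticMap.map_zero])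
        refine hlin ((polar Q x₀ z)⁻¹ * polar Q x₁ z) ?_
        rw [mul_smul, ← sub_eq_zero.1 h, inv_smul_smul₀ hr0]
      by_cases hp0 : polar Q x₀ (polar Q x₀ z • x₀ - polar Q x₁ z • x₁) = 0
      · have hx₁W := hxi x₁ hx₁R hQx₁ fun hp1 => hrne (hboth _ hrR hp0 hp1)
        have h := W'.sub_mem h1 (W'.smul_mem (polar Q x₁ z) hx₁W)
        rw [add_sub_cancel_right] at h
        exact (W'.smul_mem_iff hzu).1 h
      · have h := W'.sub_mem h0 (W'.smul_mem (polar Q x₀ z) (hxi x₀ hx₀R hQx₀ hp0))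
        rw [add_sub_cancel_right] at h
        exact (W'.smul_mem_iff hzu).1 h
    obtain ⟨z', hz', hz'0, huz', -, hQz'⟩ := hcompl u huW' hQu
    by_cases h0 : polar Q x₀ z' = 0
    · by_cases h1 : polar Q x₁ z' = 0
      · obtain ⟨c, rfl⟩ := hpp' z' hz' huz' h0 h1
        exact absurd (by rw [QuadraticMap.map_smul, hQe, smul_zero]) hQz'
      · have h := hinv x₁ hx₁R hQx₁ z' hz'
        rw [huz', zero_smul, zero_add] at h
        exact htwo u huW' hQu x₁ hx₁R (Or.inr rfl) (Or.inl rfl) huW' ((W'.smul_mem_iff h1).1 h)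
    · have h := hinv x₀ hx₀R hQx₀ z' hz'
      rw [huz', zero_smul, zero_add] at h
      exact htwo u huW' hQu x₀ hx₀R (Or.inl rfl) (Or.inl rfl) huW' ((W'.smul_mem_iff h0).1 h)
  push Not at hβ
  left
  have hmem : ∀ x ∈ R, Q x = Q u → (∃ z ∈ W', polar Q x z ≠ 0) → x ∈ W' := by
    rintro x hx hQx ⟨z, hz, hne⟩
    have h := hinv x hx hQx z hz
    rw [hβ z hz, zero_smul, zero_add] at h
    exact (W'.smul_mem_iff hne).1 h
  have hone : ∀ xi xj : V, xi ∈ W' → Q xi = Q u → (xi = x₀ ∧ xj = x₁ ∨ xi = x₁ ∧ xj = x₀) →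
      ∃ z ∈ W', polar Q xj z ≠ 0 := by
    intro xi xj hxi hQxi hcase
    by_contra hc
    push Not at hc
    obtain ⟨z, hz, hz0, haz, -, hQz⟩ := hcompl xi hxi (hQxi ▸ hQu)
    have h3 := hc z hz
    obtain ⟨c, rfl⟩ : ∃ c : F, z = c • (w + p) := by
      rcases hcase with ⟨rfl, rfl⟩ | ⟨rfl, rfl⟩
      · exact hpp' z hz (hβ z hz) haz h3
      · exact hpp' z hz (hβ z hz) h3 haz
    exact hQz (by rw [QuadraticMap.map_smul, hQe, smul_zero])
  obtain ⟨hx₀W, hx₁W⟩ : x₀ ∈ W' ∧ x₁ ∈ W' := by
    by_cases hx₀W : ∃ z ∈ W', polar Q x₀ z ≠ 0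
    · have h0 := hmem x₀ hx₀R hQx₀ hx₀W
      exact ⟨h0, hmem x₁ hx₁R hQx₁ (hone x₀ x₁ h0 hQx₀ (Or.inl ⟨rfl, rfl⟩))⟩
    · by_cases hx₁W : ∃ z ∈ W', polar Q x₁ z ≠ 0
      · have h1 := hmem x₁ hx₁R hQx₁ hx₁W
        exact absurd (hone x₁ x₀ h1 hQx₁ (Or.inr ⟨rfl, rfl⟩)) hx₀W
      · push Not at hx₀W hx₁W
        obtain ⟨z, hz, hz0⟩ := Submodule.exists_mem_ne_zero_of_ne_bot
          (show W' ≠ ⊥ from fun h => by rw [h, finrank_bot] at hW'2; omega)
        exfalso
        refine hz0 (hW'n z hz fun y hy => polar_eq_zero_of_sing (W := W') (fun v hv => ?_) hz hy)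
        obtain ⟨c, rfl⟩ := hpp' v hv (hβ v hv) (hx₀W v hv) (hx₁W v hv)
        rw [QuadraticMap.map_smul, hQe, smul_zero]
  have hRW : R ≤ W' := fun r hr => by
    obtain ⟨α, β, rfl⟩ := hRsp r hr
    have hy : y₀ ∈ W' := by
      have h := W'.sub_mem (W'.smul_mem (-k₁⁻¹) (W'.sub_mem hx₁W hx₀W)) hx₀W
      have e : (-k₁⁻¹) • (x₁ - x₀) - x₀ = t • y₀ := by
        rw [hx₁v, add_sub_cancel_left, smul_smul, neg_mul_neg, inv_mul_cancel₀ hk₁0, one_smul, add_sub_cancel_left]
      rw [e] at h
      exact (W'.smul_mem_iff ht).1 h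
    exact W'.add_mem (W'.smul_mem α hx₀W) (W'.smul_mem β hy)
  rw [← Submodule.eq_of_le_of_finrank_eq hRW (hRd.trans hW'2.symm)]
  exact inf_le_left

/-- A centre of the perpendicular is fixed by an outer element. -/
theorem exists_fixer (hW2 : finrank F W = 2) (hP3 : finrank F (orth Q W) = 3)
    (hq : ∃ t : F, t ≠ 0 ∧ t * t ≠ 1) {g : quadIso Q} (hg : g ∈ K) (hgW : g ∉ St Q W) :
    ∃ s ∈ K, s ∉ St Q W ∧ ∃ e ∈ orth Q W, e ≠ 0 ∧ Q e = 0 ∧ s.1 e = e := by
  rcases fixer_or hQ hn h2 hHK hW hW2 hP3 hq hg hgW with h | hcfg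
  · exact h
  set W' := W.map (g.1 : V →ₗ[F] V) with hW'
  have hW'n : ∀ z ∈ W', (∀ y ∈ W', polar Q z y = 0) → z = 0 := by
    rintro _ ⟨z, hz, rfl⟩ h
    have : z = 0 := hW z hz fun y hy => by
      rw [← OrthOrder.polar_map g.2]
      exact h _ (Submodule.mem_map_of_mem hy)
    show g.1 z = 0
    rw [this, map_zero]
  have hW'2 : finrank F W' = 2 := by rw [hW', LinearEquiv.finrank_map_eq, hW2]
  -- the moving element
  obtain ⟨h, hhG, hhW, hsep, hmv⟩ : ∃ h ∈ Subgroup.closure (Sieg Q), (∀ w ∈ W, h.1 w = w) ∧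
      (∀ z ∈ W', (∀ y ∈ W', polar Q (h.1 z) y = 0) → z = 0) ∧ ∃ z ∈ W', h.1 z ∉ W' := by
    rcases hcfg with hA | ⟨u, hu, x, hx, hQu, hQx, hspan⟩
    · have hPn := orth_nondeg hQ hn h2 hW
      obtain ⟨p, ⟨hpP, hpW⟩, hp0⟩ := (Submodule.ne_bot_iff (orth Q W ⊓ orth Q W')).1 fun h => by
        have h1 := Submodule.finrank_sup_add_finrank_inf_eq (orth Q W) (orth Q W')
        have h3 := finrank_orth hQ W'
        have h4 := Submodule.finrank_le (orth Q W ⊔ orth Q W')
        have h5 := finrank_orth hQ W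
        rw [h, finrank_bot] at h1
        omega
      have hQp : Q p ≠ 0 := fun h => by
        have hpnot : p ∉ W' := fun hh => hp0 (hW'n p hh fun y hy => orth_comm hpW hy)
        have hsup : W' ⊔ Submodule.span F {p} = orth Q W := by
          refine Submodule.eq_of_le_of_finrank_eq (sup_le hA ((Submodule.span_singleton_le_iff_mem _ _).2 hpP)) ?_
          have h1 := Submodule.finrank_sup_add_finrank_inf_eq W' (Submodule.span F {p})
          have h3 : W' ⊓ Submodule.span F {p} = ⊥ := eq_bot_iff.2 fun y hy => by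
            obtain ⟨c, rfl⟩ := Submodule.mem_span_singleton.1 hy.2
            by_cases hc : c = 0
            · simp [hc]
            · exact absurd ((W'.smul_mem_iff hc).1 hy.1) hpnot
          rw [h3, finrank_bot, finrank_span_singleton hp0, hW'2] at h1
          omega
        refine hp0 (hPn p hpP fun y hy => ?_)
        obtain ⟨a, ha, b, hb, rfl⟩ := Submodule.mem_sup.1 (hsup.ge hy)
        obtain ⟨c, rfl⟩ := Submodule.mem_span_singleton.1 hb
        rw [polar_add_right, orth_comm hpW ha, polar_smul_right, ReflectionGen.pol_self, h]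
        simp
      obtain ⟨h, hhG, hhW, hsep, hmv⟩ := exists_moving hQ hn h2 hW hP3 hq hpP hQp
      have hhP : ∀ z ∈ orth Q W, h.1 z ∈ orth Q W := fun z hz y hy => by
        show polar Q y (h.1 z) = 0
        rw [← hhW y hy, OrthOrder.polar_map h.2]
        exact hz y hy
      have hline : ∀ v ∈ orth Q W, (∀ y ∈ W', polar Q v y = 0) → ∃ c : F, v = c • p := by
        intro v hv hvW
        have hpp : polar Q p p ≠ 0 := by rw [ReflectionGen.pol_self]; exact mul_ne_zero h2 hQp
        refine ⟨polar Q p v / polar Q p p, sub_eq_zero.1 (hPn _ ((orth Q W).sub_mem hv ((orth Q W).smul_mem _ hpP))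
          fun y hy => ?_)⟩
        have hsup : W' ⊔ Submodule.span F {p} = orth Q W := by
          refine Submodule.eq_of_le_of_finrank_eq (sup_le hA ((Submodule.span_singleton_le_iff_mem _ _).2 hpP)) ?_
          have h1 := Submodule.finrank_sup_add_finrank_inf_eq W' (Submodule.span F {p})
          have h3 : W' ⊓ Submodule.span F {p} = ⊥ := eq_bot_iff.2 fun y hy => by
            obtain ⟨c, rfl⟩ := Submodule.mem_span_singleton.1 hy.2
            have hc : c * polar Q p p = 0 := by
              rw [← smul_eq_mul, ← polar_smul_right]; exact orth_comm hpW hy.1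
            simp [(mul_eq_zero.1 hc).resolve_right hpp]
          rw [h3, finrank_bot, finrank_span_singleton hp0, hW'2] at h1
          omega
        obtain ⟨a, ha, b, hb, rfl⟩ := Submodule.mem_sup.1 (hsup.ge hy)
        obtain ⟨c, rfl⟩ := Submodule.mem_span_singleton.1 hb
        rw [polar_sub_left, polar_smul_left, polar_add_right, polar_add_right, hvW a ha, orth_comm hpW ha,
          polar_smul_right, polar_smul_right, polar_comm Q v p, smul_eq_mul, smul_eq_mul, smul_eq_mul]
        field_simp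
        ring
      refine ⟨h, hhG, hhW, fun z hz hzW => ?_, ?_⟩
      · obtain ⟨c, hc⟩ := hline _ (hhP z (hA hz)) hzW
        have h1 : polar Q (h.1 z) (h.1 p) = 0 := by
          rw [OrthOrder.polar_map h.2]; exact hpW z hz
        rw [hc, polar_smul_left, polar_comm, smul_eq_mul] at h1
        rw [(mul_eq_zero.1 h1).resolve_right hsep, zero_smul] at hc
        exact h.1.injective (hc.trans h.1.map_zero.symm)
      · by_contra hall
        push Not at hall
        obtain ⟨c, hc⟩ := hline _ (hhP p hpP) (fun y hy => by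
          have hmap : W'.map (h.1 : V →ₗ[F] V) = W' :=
            Submodule.eq_of_le_of_finrank_eq (Submodule.map_le_iff_le_comap.2 hall)
              (LinearEquiv.finrank_map_eq h.1 W')
          obtain ⟨y', hy', rfl⟩ := Submodule.mem_map.1 (hmap.ge hy)
          show polar Q (h.1 p) (h.1 y') = 0
          rw [OrthOrder.polar_map h.2]
          exact orth_comm hpW hy')
        exact hmv c hc
    · obtain ⟨h, hhG, hhW, hsep, hmv⟩ := exists_moving hQ hn h2 hW hP3 hq hx hQx
      have hux : polar Q u x = 0 := hx u hu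
      refine ⟨h, hhG, hhW, fun z hz hzW => ?_, ⟨x, hspan ▸ Submodule.subset_span (by simp), fun hxW => ?_⟩⟩
      · rw [hspan] at hz
        obtain ⟨a, b, rfl⟩ := Submodule.mem_span_pair.1 hz
        have huh : polar Q u (h.1 x) = 0 := by
          rw [← hhW u hu, OrthOrder.polar_map h.2]; exact hux
        have h1 := hzW u (hspan ▸ Submodule.subset_span (by simp))
        rw [map_add, map_smul, map_smul, hhW u hu, polar_add_left, polar_smul_left, polar_smul_left,
          polar_comm Q (h.1 x) u, huh, ReflectionGen.pol_self, smul_zero, add_zero, smul_eq_zero] at h1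
        have ha := h1.resolve_right (mul_ne_zero h2 hQu)
        have h3 := hzW x (hspan ▸ Submodule.subset_span (by simp))
        rw [ha, zero_smul, zero_add, map_smul, polar_smul_left, smul_eq_zero] at h3
        rw [ha, h3.resolve_right hsep, zero_smul, zero_smul, add_zero]
      · rw [hspan] at hxW
        obtain ⟨a, b, hab⟩ := Submodule.mem_span_pair.1 hxW
        have h1 := congrArg (polar Q u) hab
        rw [polar_add_right, polar_smul_right, polar_smul_right, hux, ReflectionGen.pol_self,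
          show polar Q u (h.1 x) = 0 by rw [← hhW u hu, OrthOrder.polar_map h.2]; exact hux,
          smul_zero, add_zero, smul_eq_zero] at h1
        rw [h1.resolve_right (mul_ne_zero h2 hQu), zero_smul, zero_add] at hab
        exact hmv b hab.symm
  have hhK : h ∈ K := hHK ⟨mem_St fun w hw => by rw [hhW w hw]; exact hw, hhG⟩
  set g' := g⁻¹ * h * g with hg'
  have hg'K : g' ∈ K := mul_mem (mul_mem (inv_mem hg) hhK) hg
  have hgg' : ∀ z, g.1 (g'.1 z) = h.1 (g.1 z) := fun z => g.1.apply_symm_apply _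
  have hg'W : g' ∉ St Q W := fun hs => by
    obtain ⟨z, hz, hzW⟩ := hmv
    obtain ⟨z₀, hz₀, rfl⟩ := hz
    exact hzW ⟨g'.1 z₀, maps_of_mem hs hz₀, hgg' z₀⟩
  rcases fixer_or hQ hn h2 hHK hW hW2 hP3 hq hg'K hg'W with h' | h'
  · exact h'
  exfalso
  obtain ⟨z, hz, hz0, hzP⟩ : ∃ z ∈ W, z ≠ 0 ∧ g'.1 z ∈ orth Q W := by
    rcases h' with h' | ⟨u, -, x, hx, -, hQx, hspan⟩
    · obtain ⟨z, hz, hz0⟩ := Submodule.exists_mem_ne_zero_of_ne_bot
        (show W ≠ ⊥ from fun e => by rw [e, finrank_bot] at hW2; omega)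
      exact ⟨z, hz, hz0, h' (Submodule.mem_map_of_mem hz)⟩
    · obtain ⟨z, hz, hzx⟩ := Submodule.mem_map.1 (hspan.ge (Submodule.subset_span (Set.mem_insert_of_mem _ rfl)))
      refine ⟨z, hz, fun e => hQx ?_, ?_⟩
      · rw [← hzx, e, map_zero, QuadraticMap.map_zero]
      · rw [show g'.1 z = x from hzx]; exact hx
  refine hz0 (g.1.injective ((hsep (g.1 z) (Submodule.mem_map_of_mem hz) ?_).trans g.1.map_zero.symm))
  rintro _ ⟨y, hy, rfl⟩
  rw [← hgg']
  show polar Q (g.1 (g'.1 z)) (g.1 y) = 0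
  rw [OrthOrder.polar_map g.2]
  exact orth_comm hzP hy

/-- An extra transformation at a centre gives everything. -/
theorem le_of_vector_three (hW2 : finrank F W = 2) (hP3 : finrank F (orth Q W) = 3) (hq : 5 ≤ Fintype.card F)
    {e : V} (heP : e ∈ orth Q W) (he0 : e ≠ 0) (he : Q e = 0)
    (hv : ∃ v ∈ W, v ≠ 0 ∧ ∀ c : F, InA K e (c • v)) : Subgroup.closure (Sieg Q) ≤ K := by
  have hPn := orth_nondeg hQ hn h2 hW
  obtain ⟨f, hfP, a, haP, hf, hef, hea, hfa, hQa, -⟩ := three_data hQ hn h2 hPn hP3 heP he0 he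
  let M : Submodule F V :=
    { carrier := {w | w ∈ W ∧ ∀ c : F, InA K e (c • w)}
      zero_mem' := ⟨W.zero_mem, fun c => by rw [smul_zero]; exact inA_zero e⟩
      add_mem' := fun {x y} hx hy => ⟨W.add_mem hx.1 hy.1, fun c => by
        rw [smul_add]
        exact (hx.2 c).add he (orth_comm heP (W.smul_mem c hx.1))
          (orth_comm heP (W.smul_mem c hy.1)) (hy.2 c)⟩
      smul_mem' := fun d x hx => ⟨W.smul_mem d hx.1, fun c => by rw [smul_smul]; exact hx.2 _⟩ }
  have hMW : M ≤ W := fun x hx => hx.1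
  have hM0 : M ≠ ⊥ := fun h => by
    obtain ⟨v, hv1, hv0, hv2⟩ := hv
    have hvM : v ∈ M := ⟨hv1, hv2⟩
    rw [h, Submodule.mem_bot] at hvM
    exact hv0 hvM
  have hMeq : M = W := by
    refine invariant_eq hQ hW hMW hM0 ?_ ?_ (fun h => by omega)
    · intro u hu hQu m hm
      refine ⟨W.add_mem hm.1 (W.smul_mem _ hu), fun c => ?_⟩
      set lam := Q u * Q a with hlam
      have hl0 : lam ≠ 0 := mul_ne_zero hQu hQa
      have hd : Q (e + lam • f) ≠ 0 := by
        rw [QuadraticMap.map_add Q, QuadraticMap.map_smul, polar_smul_right, he, hf, hef]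
        simpa using hl0
      have hd1 : Q (e + f) ≠ 0 := by
        rw [QuadraticMap.map_add Q, he, hf, hef]; simp
      have hvd : Q (e + lam • f) = lam := by
        rw [QuadraticMap.map_add Q, QuadraticMap.map_smul, polar_smul_right, he, hf, hef]; simp
      have hvd1 : Q (e + f) = 1 := by
        rw [QuadraticMap.map_add Q, he, hf, hef]; simp
      set k := refl Q hQu * refl Q hQa * (refl Q hd1 * refl Q hd) with hk
      have hkG : k ∈ Subgroup.closure (Sieg Q) := (refl_prod_mem hQ hn h2).2 hQu hQa hd1 hd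
        ⟨lam, by rw [hvd, hvd1, hlam]; ring⟩
      have hkW : ∀ y ∈ W, k.1 y = y + (-((Q u)⁻¹ * polar Q u y)) • u := fun y hy => by
        show (refl Q hQu).1 ((refl Q hQa).1 ((refl Q hd1).1 ((refl Q hd).1 y))) = _
        rw [refl_apply Q hd, polar_add_left, polar_smul_left, orth_comm heP hy, orth_comm hfP hy]
        simp only [smul_zero, add_zero, mul_zero, neg_zero, zero_smul]
        rw [refl_apply Q hd1, polar_add_left, orth_comm heP hy, orth_comm hfP hy]
        simp only [add_zero, mul_zero, neg_zero, zero_smul]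
        rw [refl_apply Q hQa, orth_comm haP hy, mul_zero, neg_zero, zero_smul, add_zero, refl_apply]
      have hke : k.1 e = lam • e := by
        show (refl Q hQu).1 ((refl Q hQa).1 ((refl Q hd1).1 ((refl Q hd).1 e))) = _
        have e1 : (refl Q hd).1 e = (-lam) • f := by
          rw [refl_apply Q hd, hvd, polar_add_left, polar_smul_left, ReflectionGen.pol_self, he,
            polar_comm Q f e, hef]
          simp only [mul_zero, zero_add, smul_eq_mul, mul_one, inv_mul_cancel₀ hl0]
          module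
        have e3 : (refl Q hd1).1 ((-lam) • f) = lam • e := by
          rw [refl_apply Q hd1, hvd1, polar_smul_right, polar_add_left, ReflectionGen.pol_self, hf, hef]
          simp only [inv_one, one_mul, mul_zero, add_zero, smul_eq_mul, mul_one]
          module
        rw [e1, e3, refl_apply Q hQa, polar_smul_right, polar_comm Q a e, hea]
        simp only [smul_zero, mul_zero, neg_zero, zero_smul, add_zero]
        rw [refl_apply Q hQu, polar_smul_right, show polar Q u e = 0 from heP u hu]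
        simp
      have hkK : k ∈ K := hHK ⟨mem_St fun y hy => by rw [hkW y hy]; exact W.add_mem hy (W.smul_mem _ hu), hkG⟩
      have h1 := (hm.2 (c / lam)).conj hkK
      rw [hke, map_smul, hkW m hm.1] at h1
      set m' := m + (-((Q u)⁻¹ * polar Q u m)) • u with hm'
      have hm'W : m' ∈ W := W.add_mem hm.1 (W.smul_mem _ hu)
      intro gE hgE
      have hes : polar Q (lam • e) ((c / lam) • m') = 0 := by
        rw [polar_smul_left, polar_smul_right, orth_comm heP hm'W]; simp
      obtain ⟨gE', hgE'⟩ := exists_eich Q (e := lam • e) (w := (c / lam) • m')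
        (by rw [QuadraticMap.map_smul, he, smul_zero]) hes
      have h3 := eich_scale Q lam hgE'
      rw [smul_smul, show lam * (c / lam) = c by field_simp] at h3
      rw [eich_unique Q hgE h3]
      exact h1 _ hgE'
    · intro s₁ hs₁ s₂ hs₂ hQ1 hQ2 h12 m hm
      by_cases hs0 : s₁ = 0
      · simp [hs0, hm]
      have hind : ∃ c : F, s₂ = c • s₁ := by
        by_contra hc
        push Not at hc
        refine hs0 (hW s₁ hs₁ fun y hy => ?_)
        have hli : LinearIndependent F ![s₁, s₂] := by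
          rw [LinearIndependent.pair_iff]
          intro α β hαβ
          by_cases hβ : β = 0
          · rw [hβ, zero_smul, add_zero] at hαβ
            exact ⟨(smul_eq_zero.1 hαβ).resolve_right hs0, hβ⟩
          · exact absurd (show s₂ = (-(β⁻¹ * α)) • s₁ by
              rw [neg_smul, mul_smul, eq_neg_of_add_eq_zero_left hαβ, smul_neg, neg_neg, inv_smul_smul₀ hβ]) (hc _)
        have hspan : W = Submodule.span F (Set.range ![s₁, s₂]) := by
          refine (Submodule.eq_of_le_of_finrank_eq (Submodule.span_le.2 ?_) ?_).symm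
          · rintro _ ⟨i, rfl⟩; fin_cases i <;> assumption
          · rw [finrank_span_eq_card hli, Fintype.card_fin, hW2]
        rw [hspan] at hy
        obtain ⟨kk, rfl⟩ := (Submodule.mem_span_range_iff_exists_fun F).1 hy
        simp [Fin.sum_univ_two, polar_add_right, polar_smul_right, ReflectionGen.pol_self, hQ1, h12]
      obtain ⟨c, rfl⟩ := hind
      convert hm using 1
      rw [hQ2, polar_smul_left]
      simp only [smul_eq_mul]
      module
  have hPA : ∀ {e a : V}, e ∈ orth Q W → a ∈ orth Q W → e ≠ 0 → Q e = 0 → polar Q e a = 0 → InA K e a :=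
    fun he ha he0 hes hea => inA_of_maps hQ hn hHK he0 hes hea fun w hw => by
      rw [orth_comm he hw, orth_comm ha hw]; simpa using hw
  have hF : Full K e := fun z hz => by
    obtain ⟨w, hw, p, hp, rfl⟩ := sum_top hQ hn h2 hW z
    have h1 : polar Q e w = 0 := orth_comm heP hw
    have h2 : polar Q e p = 0 := by rwa [polar_add_right, h1, zero_add] at hz
    refine InA.add he h1 h2 ?_ (hPA heP hp he0 he h2)
    have := ((hMeq.symm ▸ hw : w ∈ M)).2 1
    rwa [one_smul] at this
  exact le_of_full_pair hQ hn he hf (by rw [hef]; exact one_ne_zero) hF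
    (full_partner hQ hn hHK he hf hef hea hfa hQa
      (fun w hw => ⟨orth_comm heP hw, orth_comm hfP hw, orth_comm haP hw⟩) hF)

omit hHK in
/-- Stabilisers of non-degenerate planes are maximal. -/
theorem maxStab_plane (h5 : finrank F V = 5) (hW2 : finrank F W = 2) (hq : 5 ≤ Fintype.card F) :
    MaxStab Q W := by
  classical
  have hP3 : finrank F (orth Q W) = 3 := by
    have := finrank_orth hQ W; omega
  have hq' : ∃ t : F, t ≠ 0 ∧ t * t ≠ 1 := by
    by_contra hc
    push Not at hc
    have hsub : (Finset.univ : Finset F) ⊆ {0, 1, -1} := fun t _ => by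
      by_cases ht : t = 0
      · simp [ht]
      · rcases mul_self_eq_one_iff.1 (hc t ht) with h | h <;> simp [h]
    have h1 := (Finset.card_le_card hsub).trans Finset.card_le_three
    rw [Finset.card_univ] at h1
    omega
  refine ⟨not_le_St hQ hn (fun h => by rw [h, finrank_bot] at hW2; omega)
    (fun h => by rw [h, finrank_top] at hW2; omega), fun L hLG hHL g hg hgW => ?_⟩
  obtain ⟨s, hs, hsW, e, heP, he0, he, hse⟩ := exists_fixer hQ hn h2 hHL hW hW2 hP3 hq' hg hgW
  obtain ⟨f, hfP, a, -, hf, hef, -⟩ := three_data hQ hn h2 (orth_nondeg hQ hn h2 hW) hP3 heP he0 he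
  exact le_of_vector_three hQ hn h2 hHL hW hW2 hP3 hq heP he0 he
    (exists_vector_of_partner hQ hn h2 hHL hW hLG hs hsW heP he0 he hse hfP hf hef)

end finite

end CfsgLib.MaxSub.SpFive
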