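import Cfsg.Agent.Lib.MaxSub.SpFive.Skew
import Cfsg.Agent.Lib.MaxSub.SpFive.Plane
import Cfsg.Agent.Lib.MaxSub.SubspaceMaximalOrthOdd

/-!
Lagrangian pairs and quadratic extension fields are maximal in `Sp₄`, odd characteristic.
-/

set_option autoImplicit false
set_option maxHeartbeats 800000

namespace CfsgLib.MaxSub.SpFive

open Matrix QuadraticMap Module Cfsg.Geo CfsgLib.WittExtension CfsgLib.StdQuadForms CfsgLib.MaxSub.Orth

variable {F : Type*} [Field F] [Fintype F]

local notation "V4" => (Fin 2 ⊕ Fin 2 → F)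
local notation "V5" => (Unit ⊕ (Fin 2 ⊕ Fin 2) → F)
local notation "M4" => Matrix (Fin 2 ⊕ Fin 2) (Fin 2 ⊕ Fin 2) F
local notation "Q5" => Qo (F := F) 2

omit [Fintype F] in
theorem finrank_V5 : finrank F V5 = 5 := by simp [Module.finrank_fintype_fun_eq_card]

theorem two_ne_zero_of_odd (hodd : Odd (Fintype.card F)) : (2 : F) ≠ 0 :=
  CfsgLib.FiniteForms.two_ne_zero_of_odd (F := F) rfl hodd

/-- The subgroup of a skew element. -/
theorem skew_maximal (hq : 5 ≤ Fintype.card F) {s : M4} {δ : F} (S : Skew s δ)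
    (H : Subgroup (GL (Fin 2 ⊕ Fin 2) F))
    (hH : ∀ g : Cfsg.spGL 2 F, g.1 ∈ H ↔
      (g.1.1 * s * ((g.1)⁻¹).1 = s ∨ g.1.1 * s * ((g.1)⁻¹).1 = -s)) :
    IsMaximalIn (Cfsg.spGL 2 F) (H ⊓ Cfsg.spGL 2 F) := by
  have h := maxStab_plane (nondeg5 S.two) finrank5 S.two S.nondeg finrank_V5 S.finrank_plane hq
  exact maximal_of S.two H (St Q5 (plane s)) (fun g => (hH g).trans (S.stab_iff g)) h.1 h.2

theorem pair_maximal_four (hodd : Odd (Fintype.card F)) (hq : 5 ≤ Fintype.card F)
    (D : Fin 2 → Submodule F V4) (hD : IsMDecomposition 2 D)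
    (hts : ∀ i, IsTotallySingularFor (Cfsg.sympForm 2 F) (D i)) :
    IsMaximalIn (Cfsg.spGL 2 F) (decompositionStabilizer D ⊓ Cfsg.spGL 2 F) := by
  obtain ⟨s, S, hs⟩ := exists_skew_pair (two_ne_zero_of_odd hodd) D hD hts
  exact skew_maximal hq S _ hs

theorem unitary_field_maximal_four (hodd : Odd (Fintype.card F)) (hq : 5 ≤ Fintype.card F)
    {K : Subalgebra F M4} (hK : IsFieldSubalgebra 2 K)
    (hadj : IsAdjointClosedFor (Cfsg.sympForm 2 F) K)
    (hns : ¬ IsSelfAdjointFor (Cfsg.sympForm 2 F) K) :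
    IsMaximalIn (Cfsg.spGL 2 F) (subalgebraNormalizer K ⊓ Cfsg.spGL 2 F) := by
  obtain ⟨s, δ, S, hs⟩ := exists_skew_field (two_ne_zero_of_odd hodd) hK hadj hns
  exact skew_maximal hq S _ hs

theorem symplectic_field_maximal_four (hodd : Odd (Fintype.card F)) {K : Subalgebra F M4}
    (hK : IsFieldSubalgebra 2 K) (hsa : IsSelfAdjointFor (Cfsg.sympForm 2 F) K) :
    IsMaximalIn (Cfsg.spGL 2 F) (subalgebraNormalizer K ⊓ Cfsg.spGL 2 F) := by
  have h2 := two_ne_zero_of_odd hodd
  obtain ⟨v, hv, hg⟩ := exists_line h2 hK hsa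
  have hQv : Q5 v ≠ 0 := fun h => hv (h ▸ IsSquare.zero)
  have hv0 : v ≠ 0 := fun h => hQv (by rw [h, QuadraticMap.map_zero])
  have hQ := nondeg5 (F := F) h2
  have hW1 : finrank F (Submodule.span F ({v} : Set V5)) = 1 := finrank_span_singleton hv0
  have hP4 : finrank F (orth Q5 (Submodule.span F ({v} : Set V5))) = 4 := by
    have h1 := finrank_orth hQ (Submodule.span F ({v} : Set V5))
    rw [hW1, finrank_V5] at h1
    omega
  have h : MaxStab Q5 (Submodule.span F ({v} : Set V5)) := by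
    refine maxStab_nondeg_odd hQ finrank5 h2 (fun h => by rw [h, finrank_bot] at hW1; omega) ?_
      (by rw [hW1, finrank_V5]; omega) hP4.ge (fun g hg' => ?_) (fun h => by omega)
    · intro x hx h
      obtain ⟨c, rfl⟩ := Submodule.mem_span_singleton.1 hx
      have h1 := h v (Submodule.mem_span_singleton_self v)
      rw [polar_smul_left, ReflectionGen.pol_self, smul_eq_zero] at h1
      rw [h1.resolve_right (mul_ne_zero h2 hQv), zero_smul]
    · have := Submodule.finrank_mono hg'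
      rw [LinearEquiv.finrank_map_eq] at this
      omega
  exact maximal_of h2 _ _ hg h.1 h.2

end CfsgLib.MaxSub.SpFive
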