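import Cfsg.Agent.Lib.StdQuadForms
import Cfsg.Agent.Lib.SpinorMatrix
import Cfsg.Agent.Lib.OrthOrderBase
import Cfsg.Agent.Lib.SympBlocks
import Cfsg.Agent.Lib.SympSimple
import Cfsg.Agent.Lib.ExceptionalIso
import Cfsg.Agent.Lib.OmegaSimple
import Cfsg.Agent.Lib.PauliFour.Symplectic
import Cfsg.Agent.Lib.MaxSub.SubspaceMaximalOrth

/-!
The symplectic group of dimension four acting on the five-dimensional space of self-adjoint matrices of
trace zero, whose squares are scalars: the map onto the derived group of the orthogonal group.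
-/

set_option autoImplicit false
set_option maxHeartbeats 800000

namespace CfsgLib.MaxSub.SpFive

open Matrix QuadraticMap CfsgLib.WittExtension CfsgLib.StdQuadForms
open CfsgLib.PauliFour (mem_symp)

variable {F : Type*} [Field F]

local notation "ι" => (Fin 2 ⊕ Fin 2)
local notation "V4" => (Fin 2 ⊕ Fin 2 → F)
local notation "V5" => (Unit ⊕ (Fin 2 ⊕ Fin 2) → F)
local notation "M4" => Matrix (Fin 2 ⊕ Fin 2) (Fin 2 ⊕ Fin 2) F
local notation "GL4" => GL (Fin 2 ⊕ Fin 2) F
local notation "J4" => Matrix.J (Fin 2) F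
local notation "Q5" => Qo (F := F) 2

/-- The matrix of a vector. -/
def X (v : Unit ⊕ (Fin 2 ⊕ Fin 2) → F) : Matrix (Fin 2 ⊕ Fin 2) (Fin 2 ⊕ Fin 2) F :=
  Matrix.fromBlocks !![v (.inl ()), v (.inr (.inl 0)); v (.inr (.inr 0)), -v (.inl ())]
    !![0, v (.inr (.inl 1)); -v (.inr (.inl 1)), 0]
    !![0, -v (.inr (.inr 1)); v (.inr (.inr 1)), 0]
    !![v (.inl ()), v (.inr (.inr 0)); v (.inr (.inl 0)), -v (.inl ())]

/-- The coordinates of a matrix. -/
def co (M : Matrix (Fin 2 ⊕ Fin 2) (Fin 2 ⊕ Fin 2) F) : Unit ⊕ (Fin 2 ⊕ Fin 2) → F :=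
  Sum.elim (fun _ => M (.inl 0) (.inl 0))
    (Sum.elim ![M (.inl 0) (.inl 1), M (.inl 0) (.inr 1)] ![M (.inl 1) (.inl 0), M (.inr 1) (.inl 0)])

theorem co_X (v : V5) : co (X v) = v := by
  funext i
  rcases i with u | i | i
  · simp [co, X]
  · fin_cases i <;> simp [co, X]
  · fin_cases i <;> simp [co, X]

theorem X_injective : Function.Injective (X (F := F)) := fun u v h => by rw [← co_X u, h, co_X]

theorem X_add (u v : V5) : X (u + v) = X u + X v := by
  ext i j
  rcases i with i | i <;> rcases j with j | j <;> fin_cases i <;> fin_cases j <;> simp [X] <;> ring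

theorem X_smul (c : F) (v : V5) : X (c • v) = c • X v := by
  ext i j
  rcases i with i | i <;> rcases j with j | j <;> fin_cases i <;> fin_cases j <;> simp [X]

theorem X_zero : X (0 : V5) = 0 := by
  ext i j
  rcases i with i | i <;> rcases j with j | j <;> fin_cases i <;> fin_cases j <;> simp [X]

/-- The coordinates as a linear map. -/
def coL : Matrix (Fin 2 ⊕ Fin 2) (Fin 2 ⊕ Fin 2) F →ₗ[F] (Unit ⊕ (Fin 2 ⊕ Fin 2) → F) where
  toFun := co
  map_add' M N := by
    funext i
    rcases i with u | i | i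
    · simp [co]
    · fin_cases i <;> simp [co]
    · fin_cases i <;> simp [co]
  map_smul' c M := by
    funext i
    rcases i with u | i | i
    · simp [co]
    · fin_cases i <;> simp [co]
    · fin_cases i <;> simp [co]

/-- Self-adjoint of trace zero. -/
def IsA (M : Matrix (Fin 2 ⊕ Fin 2) (Fin 2 ⊕ Fin 2) F) : Prop :=
  Mᵀ * Matrix.J (Fin 2) F = Matrix.J (Fin 2) F * M ∧ M.trace = 0

theorem isA_X (v : V5) : IsA (X v) := by
  refine ⟨?_, ?_⟩
  · ext i j
    rcases i with i | i <;> rcases j with j | j <;> fin_cases i <;> fin_cases j <;>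
      simp [X, Matrix.J, Matrix.mul_apply, Fintype.sum_sum_type, Fin.sum_univ_two]
  · simp [X, Matrix.trace, Fintype.sum_sum_type, Fin.sum_univ_two]

theorem X_co (h2 : (2 : F) ≠ 0) {M : M4} (h : IsA M) : X (co M) = M := by
  obtain ⟨hM, ht⟩ := h
  have e := fun i j => congrFun (congrFun hM i) j
  have e1 := e (.inl 0) (.inl 0)
  have e2 := e (.inl 0) (.inl 1)
  have e3 := e (.inl 1) (.inl 1)
  have e4 := e (.inr 0) (.inr 0)
  have e5 := e (.inr 0) (.inr 1)
  have e6 := e (.inr 1) (.inr 1)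
  have e7 := e (.inl 0) (.inr 0)
  have e8 := e (.inl 0) (.inr 1)
  have e9 := e (.inl 1) (.inr 0)
  have e10 := e (.inl 1) (.inr 1)
  simp [Matrix.J, Matrix.mul_apply, Fintype.sum_sum_type, Fin.sum_univ_two] at e1 e2 e3 e4 e5 e6 e7 e8 e9 e10
  simp [Matrix.trace, Fintype.sum_sum_type, Fin.sum_univ_two] at ht
  have d1 : M (.inr 0) (.inl 0) = 0 := mul_left_cancel₀ h2 (by linear_combination e1)
  have d3 : M (.inr 1) (.inl 1) = 0 := mul_left_cancel₀ h2 (by linear_combination e3)
  have d4 : M (.inl 0) (.inr 0) = 0 := mul_left_cancel₀ h2 (by linear_combination -e4)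
  have d6 : M (.inl 1) (.inr 1) = 0 := mul_left_cancel₀ h2 (by linear_combination -e6)
  have d7 : M (.inr 0) (.inr 0) = M (.inl 0) (.inl 0) := e7.symm
  have d10 : M (.inr 1) (.inr 1) = M (.inl 1) (.inl 1) := e10.symm
  have d11 : M (.inl 1) (.inl 1) = -M (.inl 0) (.inl 0) :=
    mul_left_cancel₀ h2 (by linear_combination ht - d7 - d10)
  ext i j
  rcases i with i | i <;> rcases j with j | j <;> fin_cases i <;> fin_cases j <;>
    simp [X, co, d1, d3, d4, d6, d7, d10, d11]
  all_goals first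
    | linear_combination e2
    | linear_combination -e2
    | linear_combination e5
    | linear_combination -e5
    | linear_combination e8
    | linear_combination -e8
    | linear_combination e9
    | linear_combination -e9

theorem X_sq (v : V5) : X v * X v = Qo 2 v • (1 : M4) := by
  rw [Qo_apply]
  ext i j
  rcases i with i | i <;> rcases j with j | j <;> fin_cases i <;> fin_cases j <;>
    simp [X, Cfsg.quadFormOdd, Matrix.mul_apply, Fintype.sum_sum_type, Fin.sum_univ_two] <;> ring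

theorem X_anti (u v : V5) : X u * X v + X v * X u = polar (Qo 2) u v • (1 : M4) := by
  rw [QuadraticMap.polar, sub_smul, sub_smul, ← X_sq, ← X_sq, ← X_sq, X_add]
  noncomm_ring

/-- Only scalars commute with every matrix of the space. -/
theorem scalar_of_comm (h2 : (2 : F) ≠ 0) {g : M4} (h : ∀ v, g * X v = X v * g) :
    ∃ c : F, g = c • 1 := by
  have e : ∀ (v : V5) (i j : ι), (g * X v) i j = (X v * g) i j := fun v i j => by rw [h v]
  let a : V5 := Sum.elim (fun _ => 1) 0
  let b : V5 := Sum.elim 0 (Sum.elim ![1, 0] 0)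
  let s : V5 := Sum.elim 0 (Sum.elim ![0, 1] 0)
  have z1 := e a (.inl 0) (.inl 1)
  have z2 := e a (.inl 0) (.inr 1)
  have z3 := e a (.inl 1) (.inl 0)
  have z4 := e a (.inl 1) (.inr 0)
  have z5 := e a (.inr 0) (.inl 1)
  have z6 := e a (.inr 0) (.inr 1)
  have z7 := e a (.inr 1) (.inl 0)
  have z8 := e a (.inr 1) (.inr 0)
  have y1 := e b (.inl 0) (.inl 1)
  have y2 := e b (.inl 1) (.inr 0)
  let c' : V5 := Sum.elim 0 (Sum.elim 0 ![1, 0])
  have y3 := e c' (.inl 0) (.inr 1)
  have y4 := e b (.inr 1) (.inr 0)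
  have y5 := e b (.inr 0) (.inl 1)
  have y6 := e b (.inr 1) (.inl 1)
  have x1 := e s (.inl 0) (.inr 1)
  have x2 := e s (.inl 1) (.inr 0)
  have x3 := e s (.inl 0) (.inl 1)
  have x4 := e s (.inl 1) (.inl 0)
  have x5 := e s (.inr 0) (.inr 1)
  have x6 := e s (.inr 1) (.inr 0)
  simp [a, b, c', s, X, Matrix.mul_apply, Fintype.sum_sum_type, Fin.sum_univ_two]
    at z1 z2 z3 z4 z5 z6 z7 z8 y1 y2 y3 y4 y5 y6 x1 x2 x3 x4 x5 x6
  have w1 : g (.inl 0) (.inl 1) = 0 := mul_left_cancel₀ h2 (by linear_combination -z1)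
  have w2 : g (.inl 0) (.inr 1) = 0 := mul_left_cancel₀ h2 (by linear_combination -z2)
  have w3 : g (.inl 1) (.inl 0) = 0 := mul_left_cancel₀ h2 (by linear_combination z3)
  have w4 : g (.inl 1) (.inr 0) = 0 := mul_left_cancel₀ h2 (by linear_combination z4)
  have w5 : g (.inr 0) (.inl 1) = 0 := mul_left_cancel₀ h2 (by linear_combination -z5)
  have w6 : g (.inr 0) (.inr 1) = 0 := mul_left_cancel₀ h2 (by linear_combination -z6)
  have w7 : g (.inr 1) (.inl 0) = 0 := mul_left_cancel₀ h2 (by linear_combination z7)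
  have w8 : g (.inr 1) (.inr 0) = 0 := mul_left_cancel₀ h2 (by linear_combination z8)
  refine ⟨g (.inl 0) (.inl 0), ?_⟩
  ext i j
  rcases i with i | i <;> rcases j with j | j <;> fin_cases i <;> fin_cases j <;>
    simp [w1, w2, w3, w4, w5, w6, w7, w8, Matrix.one_apply] <;>
    first
      | linear_combination y1
      | linear_combination -y1
      | linear_combination y2
      | linear_combination -y2
      | linear_combination y3
      | linear_combination -y3
      | linear_combination y4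
      | linear_combination -y4
      | linear_combination y5
      | linear_combination -y5
      | linear_combination y6
      | linear_combination -y6
      | linear_combination x1
      | linear_combination -x1
      | linear_combination x1 + y4
      | linear_combination x1 - y4
      | linear_combination -x1 + y4
      | linear_combination -x1 - y4
      | linear_combination x2
      | linear_combination -x2
      | linear_combination x3
      | linear_combination -x3
      | linear_combination x5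
      | linear_combination -x5

theorem sp_inv (g : Cfsg.spGL 2 F) : (g.1.1)ᵀ * J4 * g.1.1 = J4 := (mem_symp g.1).1 g.2

theorem isA_conj {g : GL4} (hg : g ∈ Cfsg.spGL 2 F) {M : M4} (h : IsA M) :
    IsA (g.1 * M * (g⁻¹).1) := by
  refine ⟨?_, ?_⟩
  · have hg' := (mem_symp g).1 hg
    have e1 : J4 * g.1 = ((g⁻¹).1)ᵀ * J4 := by
      calc J4 * g.1 = ((g⁻¹).1)ᵀ * ((g.1)ᵀ * J4 * g.1) := by
            rw [← Matrix.mul_assoc, ← Matrix.mul_assoc, ← Matrix.transpose_mul, Units.mul_inv,
              Matrix.transpose_one, Matrix.one_mul]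
        _ = _ := by rw [hg']
    have e2 : (g.1)ᵀ * J4 = J4 * (g⁻¹).1 := by
      calc (g.1)ᵀ * J4 = (g.1)ᵀ * J4 * g.1 * (g⁻¹).1 := by
            rw [Matrix.mul_assoc _ g.1, Units.mul_inv, Matrix.mul_one]
        _ = _ := by rw [hg']
    calc (g.1 * M * (g⁻¹).1)ᵀ * J4 = ((g⁻¹).1)ᵀ * (Mᵀ * ((g.1)ᵀ * J4)) := by
          simp only [Matrix.transpose_mul, Matrix.mul_assoc]
      _ = ((g⁻¹).1)ᵀ * (Mᵀ * J4) * (g⁻¹).1 := by rw [e2]; simp only [Matrix.mul_assoc]
      _ = ((g⁻¹).1)ᵀ * J4 * (M * (g⁻¹).1) := by rw [h.1]; simp only [Matrix.mul_assoc]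
      _ = _ := by rw [← e1]; simp only [Matrix.mul_assoc]
  · rw [Matrix.trace_mul_comm, ← Matrix.mul_assoc, Units.inv_mul, Matrix.one_mul]
    exact h.2

variable (h2 : (2 : F) ≠ 0)

/-- The action. -/
def act (g : Cfsg.spGL 2 F) : (Unit ⊕ (Fin 2 ⊕ Fin 2) → F) →ₗ[F] (Unit ⊕ (Fin 2 ⊕ Fin 2) → F) where
  toFun v := coL (g.1.1 * X v * ((g.1)⁻¹).1)
  map_add' u v := by rw [X_add, Matrix.mul_add, Matrix.add_mul, map_add]
  map_smul' c v := by rw [X_smul, Matrix.mul_smul, Matrix.smul_mul, map_smul]; rfl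

include h2

theorem X_act (g : Cfsg.spGL 2 F) (v : V5) : X (act g v) = g.1.1 * X v * ((g.1)⁻¹).1 :=
  X_co h2 (isA_conj g.2 (isA_X v))

theorem act_mul (g k : Cfsg.spGL 2 F) (v : V5) : act (g * k) v = act g (act k v) := by
  apply X_injective
  rw [X_act h2, X_act h2, X_act h2, Subgroup.coe_mul, _root_.mul_inv_rev, Units.val_mul, Units.val_mul]
  simp only [Matrix.mul_assoc]

theorem act_one (v : V5) : act (1 : Cfsg.spGL 2 F) v = v := by
  apply X_injective
  rw [X_act h2, OneMemClass.coe_one, inv_one, Units.val_one, Matrix.one_mul, Matrix.mul_one]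

theorem act_form (g : Cfsg.spGL 2 F) (v : V5) : Qo 2 (act g v) = Qo 2 v := by
  have h1 : Qo 2 (act g v) • (1 : M4) = Qo 2 v • (1 : M4) := by
    rw [← X_sq, X_act h2,
      show g.1.1 * X v * ((g.1)⁻¹).1 * (g.1.1 * X v * ((g.1)⁻¹).1) =
        g.1.1 * (X v * (((g.1)⁻¹).1 * g.1.1) * X v) * ((g.1)⁻¹).1 by simp only [Matrix.mul_assoc],
      Units.inv_mul, Matrix.mul_one, X_sq, Matrix.mul_smul, Matrix.mul_one, Matrix.smul_mul,
      Units.mul_inv]
  have := congrFun (congrFun h1 (.inl 0)) (.inl 0)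
  simpa using this

theorem act_left (g : Cfsg.spGL 2 F) (v : V5) : act g⁻¹ (act g v) = v := by
  rw [← act_mul h2, inv_mul_cancel, act_one h2]

theorem act_right (g : Cfsg.spGL 2 F) (v : V5) : act g (act g⁻¹ v) = v := by
  rw [← act_mul h2, mul_inv_cancel, act_one h2]

/-- The action by one element. -/
noncomputable def actEquiv (g : Cfsg.spGL 2 F) :
    (Unit ⊕ (Fin 2 ⊕ Fin 2) → F) ≃ₗ[F] (Unit ⊕ (Fin 2 ⊕ Fin 2) → F) :=
  { act g with
    invFun := fun v => act g⁻¹ v
    left_inv := fun v => act_left h2 g v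
    right_inv := fun v => act_right h2 g v }

/-- The map into the isometries of the five-dimensional space. -/
noncomputable def phi : Cfsg.spGL 2 F →* quadIso (Qo (F := F) 2) :=
  MonoidHom.mk' (fun g => ⟨actEquiv h2 g, fun v => act_form h2 g v⟩)
    fun g k => Subtype.ext (LinearEquiv.ext fun v => act_mul h2 g k v)

theorem X_phi (g : Cfsg.spGL 2 F) (v : V5) :
    X ((phi h2 g).1 v) = g.1.1 * X v * ((g.1)⁻¹).1 := X_act h2 g v

theorem phi_eq_iff (g : Cfsg.spGL 2 F) (v w : V5) :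
    (phi h2 g).1 v = w ↔ g.1.1 * X v = X w * g.1.1 := by
  rw [← X_injective.eq_iff, X_phi h2]
  constructor
  · intro h
    rw [← h, Matrix.mul_assoc _ _ g.1.1, Units.inv_mul, Matrix.mul_one]
  · intro h
    rw [h, Matrix.mul_assoc, Units.mul_inv, Matrix.mul_one]

theorem ker_phi (g : Cfsg.spGL 2 F) :
    phi h2 g = 1 ↔ g.1.1 = 1 ∨ g.1.1 = -1 := by
  constructor
  · intro h
    obtain ⟨c, hc⟩ := scalar_of_comm h2 (g := g.1.1) fun v =>
      (phi_eq_iff h2 g v v).1 (by rw [h]; rfl)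
    have h1 := sp_inv g
    rw [hc, Matrix.transpose_smul, Matrix.transpose_one, Matrix.smul_mul, Matrix.one_mul, Matrix.smul_mul,
      Matrix.mul_smul, Matrix.mul_one, smul_smul] at h1
    have h3 := congrFun (congrFun h1 (.inl 0)) (.inr 0)
    simp [Matrix.J] at h3
    rcases mul_self_eq_one_iff.1 h3 with h | h
    · exact Or.inl (by rw [hc, h, one_smul])
    · exact Or.inr (by rw [hc, h, neg_one_smul])
  · intro h
    refine Subtype.ext (LinearEquiv.ext fun v => (phi_eq_iff h2 g v v).2 ?_)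
    rcases h with h | h <;> rw [h] <;> simp

theorem nondeg5 : (polarBilin (Qo (F := F) 2)).Nondegenerate := Qo_nondeg h2 2

omit h2 in
theorem finrank5 : 5 ≤ Module.finrank F (Unit ⊕ (Fin 2 ⊕ Fin 2) → F) := by
  simp [Module.finrank_fintype_fun_eq_card]

variable [Fintype F]

/-- The image is the derived group. -/
theorem range_phi :
    (phi h2).range = Subgroup.closure (CfsgLib.Eichler.Sieg (Qo (F := F) 2)) := by
  classical
  have hq3 : 3 ≤ Fintype.card F := by
    have h1 := Fintype.one_lt_card (α := F)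
    by_contra h
    have h3 : (Fintype.card F : F) = 0 := FiniteField.cast_card_eq_zero F
    rw [show Fintype.card F = 2 by omega] at h3
    exact h2 (by exact_mod_cast h3)
  have hodd : Odd (Fintype.card F) := Nat.odd_iff.2 <| FiniteField.odd_card_of_char_ne_two fun h => h2 (by
    haveI : CharP F 2 := h ▸ ringChar.charP F
    exact CharTwo.two_eq_zero)
  have hsurj : Function.Surjective (CfsgLib.SympSimple.toSpGL (F := F) (m := 2)) :=
    CfsgLib.SympSimple.toSpGL_surjective
  have hinj : Function.Injective (CfsgLib.SympSimple.toSpGL (F := F) (m := 2)) := fun a b h => by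
    apply Subtype.ext
    rw [← CfsgLib.SympSimple.toSpGL_coe a, h, CfsgLib.SympSimple.toSpGL_coe]
  have hperf : commutator ↥(Cfsg.spGL 2 F) = ⊤ := by
    have h1 : commutator ↥(Matrix.symplecticGroup (Fin 2) F) = ⊤ :=
      CfsgLib.SympSimple.perfect_fintype (Or.inr (Or.inl ⟨rfl, hq3⟩))
    have h3 := congrArg (Subgroup.map (CfsgLib.SympSimple.toSpGL (F := F) (m := 2))) h1
    rw [_root_.commutator_def, Subgroup.map_commutator, Subgroup.map_top_of_surjective _ hsurj,
      ← _root_.commutator_def] at h3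
    exact h3
  rw [← OmegaSimple.commutator_eq _ (nondeg5 h2) finrank5]
  haveI : Finite (quadIso (Qo (F := F) 2)) :=
    Finite.of_injective (fun g => ((g.1 : V5 ≃ₗ[F] V5) : V5 → V5))
      fun a b h => Subtype.ext (DFunLike.coe_injective h)
  refine Subgroup.eq_of_le_of_card_ge (CfsgLib.ExceptionalIso.range_le_of_perfect _ hperf) (le_of_eq ?_)
  -- the orders
  have hidx : (commutator (quadIso (Qo (F := F) 2))).index = 4 :=
    SpinorMatrix.index_commutator _ h2 (nondeg5 h2) (by simp [Module.finrank_fintype_fun_eq_card])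
      (SpinorMatrix.hc_odd _ h2 (nondeg5 h2))
  have hO := Subgroup.card_mul_index (commutator (quadIso (Qo (F := F) 2)))
  have hcardO : Nat.card (quadIso (Qo (F := F) 2)) =
      Nat.card (Cfsg.isometryGroup F (Cfsg.quadFormOdd 2 F)) := by
    rw [← Nat.card_congr (SpinorMatrix.isoEquiv (Qo (F := F) 2)).toEquiv,
      show ⇑(Qo (F := F) 2) = Cfsg.quadFormOdd 2 F from funext (Qo_apply 2)]
  rw [hidx, hcardO, CfsgLib.OrthOrder.card_O_odd hodd 2] at hO
  have hker2 : Nat.card (phi h2).ker = 2 := by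
    rw [Nat.card_eq_two_iff]
    let m : Cfsg.spGL 2 F := ⟨(-1 : GL4), (mem_symp (-1 : GL4)).2 (by simp)⟩
    have hm1 : m.1.1 ≠ (1 : M4) := fun h => h2 (by
      have h3 := congrFun (congrFun h (.inl 0)) (.inl 0)
      simp [m, Matrix.one_apply] at h3
      linear_combination -h3)
    refine ⟨1, ⟨m, (ker_phi h2 m).2 (Or.inr (by simp [m]))⟩, fun h => hm1 ?_,
      Set.eq_univ_iff_forall.2 fun x => ?_⟩
    · exact (congrArg (fun z : (phi h2).ker => z.1.1.1) h).symm
    · rcases (ker_phi h2 x.1).1 x.2 with h | h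
      · exact Or.inl (Subtype.ext (Subtype.ext (Units.ext h)))
      · exact Or.inr (Subtype.ext (Subtype.ext (Units.ext (by simpa [m] using h))))
  have h1 := Subgroup.card_mul_index (phi h2).ker
  rw [Subgroup.index_ker, hker2] at h1
  have hG : Nat.card ↥(Cfsg.spGL 2 F) = Nat.card ↥(Matrix.symplecticGroup (Fin 2) F) :=
    (Nat.card_congr (Equiv.ofBijective _ ⟨hinj, hsurj⟩)).symm
  have h0 : Nat.card (Matrix.symplecticGroup (Fin 0) F) = 1 :=
    Nat.card_eq_one_iff_unique.mpr ⟨⟨fun x y => Subtype.ext (Subsingleton.elim _ _)⟩, ⟨1⟩⟩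
  rw [hG, show Nat.card ↥(Matrix.symplecticGroup (Fin 2) F) =
      Nat.card ↥(Matrix.symplecticGroup (Fin (1 + 1)) F) from rfl,
    CfsgLib.SympBlocks.card_step 1, CfsgLib.SympBlocks.card_step 0, h0] at h1
  simp only [Finset.prod_range_succ, Finset.prod_range_zero, Nat.reduceMul, Nat.reduceAdd, Nat.reducePow,
    zero_add, one_mul, mul_zero, mul_one] at hO h1 ⊢
  generalize Fintype.card F ^ 2 - 1 = A at hO h1
  generalize Fintype.card F ^ 4 - 1 = B at hO h1
  refine Nat.eq_of_mul_eq_mul_left (show 0 < 4 by norm_num) ?_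
  linear_combination hO - 2 * h1

/-- Maximality in the symplectic group from maximality among the overgroups in the derived group. -/
theorem maximal_of (H : Subgroup GL4) (S : Subgroup (quadIso (Qo (F := F) 2)))
    (hH : ∀ g : Cfsg.spGL 2 F, g.1 ∈ H ↔ phi h2 g ∈ S)
    (hne : ¬ Subgroup.closure (CfsgLib.Eichler.Sieg (Qo (F := F) 2)) ≤ S)
    (hmax : ∀ K ≤ Subgroup.closure (CfsgLib.Eichler.Sieg (Qo (F := F) 2)),
      S ⊓ Subgroup.closure (CfsgLib.Eichler.Sieg (Qo (F := F) 2)) ≤ K →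
        ∀ g ∈ K, g ∉ S → Subgroup.closure (CfsgLib.Eichler.Sieg (Qo (F := F) 2)) ≤ K) :
    Cfsg.Geo.IsMaximalIn (Cfsg.spGL 2 F) (H ⊓ Cfsg.spGL 2 F) := by
  rw [← range_phi h2] at hne hmax
  refine ⟨lt_of_le_of_ne inf_le_right fun e => hne ?_, fun M hM hMG => ?_⟩
  · rintro _ ⟨g, rfl⟩
    exact (hH g).1 (e.ge g.2).1
  by_cases hle : M ≤ H
  · exact Or.inl (le_antisymm (le_inf hle hMG) hM)
  obtain ⟨g, hg, hgH⟩ := SetLike.not_le_iff_exists.1 hle
  refine Or.inr (le_antisymm hMG fun x hx => ?_)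
  set g' : Cfsg.spGL 2 F := ⟨g, hMG hg⟩ with hg'
  set K := (M.subgroupOf (Cfsg.spGL 2 F)).map (phi h2) with hK
  have hKle : K ≤ (phi h2).range := Subgroup.map_le_range _ _
  have hSK : S ⊓ (phi h2).range ≤ K := fun z hz => by
    obtain ⟨hS, hr⟩ := Subgroup.mem_inf.1 hz
    obtain ⟨k, hk⟩ := MonoidHom.mem_range.1 hr
    exact Subgroup.mem_map.2 ⟨k, Subgroup.mem_subgroupOf.2
      (hM (Subgroup.mem_inf.2 ⟨(hH k).2 (hk.symm ▸ hS), k.2⟩)), hk⟩
  have hgK : phi h2 g' ∈ K := Subgroup.mem_map.2 ⟨g', Subgroup.mem_subgroupOf.2 hg, rfl⟩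
  have hgS : phi h2 g' ∉ S := fun h => hgH ((hH g').2 h)
  set x' : Cfsg.spGL 2 F := ⟨x, hx⟩ with hx'
  obtain ⟨k, hk, hke⟩ := Subgroup.mem_map.1
    (hmax K hKle hSK (phi h2 g') hgK hgS (MonoidHom.mem_range.2 ⟨x', rfl⟩))
  rw [Subgroup.mem_subgroupOf] at hk
  have h1 : (k⁻¹ * x' : Cfsg.spGL 2 F).1 ∈ H := (hH _).2 (by
    rw [map_mul, map_inv, hke, inv_mul_cancel]; exact one_mem S)
  have h3 : k.1 * (k⁻¹ * x' : Cfsg.spGL 2 F).1 ∈ M :=
    M.mul_mem hk (hM (Subgroup.mem_inf.2 ⟨h1, (k⁻¹ * x' : Cfsg.spGL 2 F).2⟩))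
  rw [Subgroup.coe_mul, Subgroup.coe_inv, mul_inv_cancel_left] at h3
  exact h3

end CfsgLib.MaxSub.SpFive
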