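import Cfsg.Agent.Lib.MaxSub.SpFive.Model
import Cfsg.Agent.Lib.MaxSub.Frame.Five
import Cfsg.Agent.Lib.MaxSub.Frame.Main
import Cfsg.Agent.Lib.PauliFour.Common
import Cfsg.Agent.Lib.PauliFour.Vectors

/-!
The normaliser of a group `2^(1+4)` of minus type in `Sp₄`: five anticommuting involutions are an orthonormal
basis of the five-dimensional space, so the normaliser is the stabiliser of an orthogonal frame, which is maximal
over a prime field.
-/

set_option autoImplicit false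
set_option maxHeartbeats 800000
set_option linter.unusedSimpArgs false

namespace CfsgLib.MaxSub.SpFive

open Matrix QuadraticMap Module Cfsg.Geo CfsgLib.WittExtension CfsgLib.StdQuadForms CfsgLib.PauliFour
open CfsgLib.MaxSub.Frame (Q1 ee IsE Mono Ov Q1_apply)

variable {F : Type*} [Field F]

local notation "V4" => (Fin 2 ⊕ Fin 2 → F)
local notation "V5" => (Unit ⊕ (Fin 2 ⊕ Fin 2) → F)
local notation "M4" => Matrix (Fin 2 ⊕ Fin 2) (Fin 2 ⊕ Fin 2) F
local notation "GL4" => GL (Fin 2 ⊕ Fin 2) F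
local notation "Q5" => Qo (F := F) 2

variable {R : Subgroup (GL (Fin 2 ⊕ Fin 2) F)} (f : PauliFour.Frame R)

/-- Five anticommuting involutions. -/
def inv5 : Fin 5 → GL (Fin 2 ⊕ Fin 2) F :=
  ![f.a, f.b, f.a * f.b * f.c, f.a * f.b * f.d, f.a * f.b * (f.c * f.d)]

theorem inv5_mem (i : Fin 5) : inv5 f i ∈ R := by
  fin_cases i
  · exact f.ha
  · exact f.hb
  · exact mul_mem (mul_mem f.ha f.hb) f.hc
  · exact mul_mem (mul_mem f.ha f.hb) f.hd
  · exact mul_mem (mul_mem f.ha f.hb) (mul_mem f.hc f.hd)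

theorem inv5_sq (i : Fin 5) : inv5 f i * inv5 f i = 1 := by
  have hab : f.a * f.b * (f.a * f.b) = -1 := by
    rw [show f.a * f.b * (f.a * f.b) = f.a * (f.b * f.a) * f.b by group, f.ba]
    rw [mul_neg, neg_mul, show f.a * (f.a * f.b) * f.b = f.a * f.a * (f.b * f.b) by group, f.aa, f.bb, one_mul]
  have hc : Commute (f.a * f.b) f.c := Commute.mul_left (show Commute f.a f.c from f.ca.symm) f.cb.symm
  have hd : Commute (f.a * f.b) f.d := Commute.mul_left (show Commute f.a f.d from f.da.symm) f.db.symm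
  have key : ∀ x, Commute (f.a * f.b) x → x * x = -1 → f.a * f.b * x * (f.a * f.b * x) = 1 := fun x h hx => by
    rw [show f.a * f.b * x * (f.a * f.b * x) = f.a * f.b * (x * (f.a * f.b)) * x by group, ← h.eq,
      show f.a * f.b * (f.a * f.b * x) * x = f.a * f.b * (f.a * f.b) * (x * x) by group, hab, hx, neg_mul,
      one_mul, neg_neg]
  fin_cases i
  · exact f.aa
  · exact f.bb
  · exact key _ hc f.cc
  · exact key _ hd f.dd
  · refine key _ (hc.mul_right hd) ?_
    rw [show f.c * f.d * (f.c * f.d) = f.c * (f.d * f.c) * f.d by group, f.dc, mul_neg, neg_mul,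
      show f.c * (f.c * f.d) * f.d = f.c * f.c * (f.d * f.d) by group, f.cc, f.dd, neg_mul, one_mul, neg_neg]

theorem inv5_anti {i j : Fin 5} (hij : i ≠ j) : inv5 f i * inv5 f j = -(inv5 f j * inv5 f i) := by
  have e : ∀ i j : Fin 5, i < j → inv5 f i * inv5 f j = -(inv5 f j * inv5 f i) := by
    have hca : ∀ x : GL4, f.c * (f.a * x) = f.a * (f.c * x) := fun x => by rw [← mul_assoc, f.ca, mul_assoc]
    have hcb : ∀ x : GL4, f.c * (f.b * x) = f.b * (f.c * x) := fun x => by rw [← mul_assoc, f.cb, mul_assoc]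
    have hda : ∀ x : GL4, f.d * (f.a * x) = f.a * (f.d * x) := fun x => by rw [← mul_assoc, f.da, mul_assoc]
    have hdb : ∀ x : GL4, f.d * (f.b * x) = f.b * (f.d * x) := fun x => by rw [← mul_assoc, f.db, mul_assoc]
    have hba : ∀ x : GL4, f.b * (f.a * x) = -(f.a * (f.b * x)) := fun x => by
      rw [← mul_assoc, f.ba, neg_mul, mul_assoc]
    have hdc : ∀ x : GL4, f.d * (f.c * x) = -(f.c * (f.d * x)) := fun x => by
      rw [← mul_assoc, f.dc, neg_mul, mul_assoc]
    have haa : ∀ x : GL4, f.a * (f.a * x) = x := fun x => by rw [← mul_assoc, f.aa, one_mul]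
    have hbb : ∀ x : GL4, f.b * (f.b * x) = x := fun x => by rw [← mul_assoc, f.bb, one_mul]
    have hcc : ∀ x : GL4, f.c * (f.c * x) = -x := fun x => by rw [← mul_assoc, f.cc, neg_mul, one_mul]
    have hdd : ∀ x : GL4, f.d * (f.d * x) = -x := fun x => by rw [← mul_assoc, f.dd, neg_mul, one_mul]
    intro i j h
    fin_cases i <;> fin_cases j <;> first
      | exact absurd h (by decide)
      | simp [inv5, mul_assoc, mul_neg, neg_neg, mul_one, hca, hcb, hda, hdb, hba, hdc, haa, hbb, hcc,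
          f.ca, f.cb, f.da, f.db, f.ba, f.dc, f.dd]
  rcases hij.lt_or_gt with h | h
  · exact e i j h
  · rw [e j i h, neg_neg]

theorem isA_of_invol (h2 : (2 : F) ≠ 0) {x y : GL4} (hx : x ∈ Cfsg.spGL 2 F) (hxx : x * x = 1)
    (hyx : y * x = -(x * y)) : IsA x.1 := by
  refine ⟨?_, ?_⟩
  · calc (x.1)ᵀ * Matrix.J (Fin 2) F = (x.1)ᵀ * Matrix.J (Fin 2) F * (x.1 * x.1) := by
          rw [← Units.val_mul, hxx, Units.val_one, Matrix.mul_one]
      _ = (x.1)ᵀ * Matrix.J (Fin 2) F * x.1 * x.1 := by simp only [Matrix.mul_assoc]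
      _ = _ := by rw [(mem_symp x).1 hx]
  · have h1 : (y.1 * x.1 * (y⁻¹).1).trace = x.1.trace := by
      rw [Matrix.trace_mul_comm, ← Matrix.mul_assoc, Units.inv_mul, Matrix.one_mul]
    rw [show y.1 * x.1 = -(x.1 * y.1) by rw [← Units.val_mul, hyx, Units.val_neg, Units.val_mul],
      Matrix.neg_mul, Matrix.mul_assoc, Units.mul_inv, Matrix.mul_one, Matrix.trace_neg] at h1
    exact mul_left_cancel₀ h2 (by rw [mul_zero]; linear_combination -h1)

/-- The coordinates of the involutions. -/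
def vec5 (i : Fin 5) : Unit ⊕ (Fin 2 ⊕ Fin 2) → F := co (inv5 f i).1

theorem scalar_one {c : F} (h : c • (1 : M4) = 1) : c = 1 := by
  simpa using congrFun (congrFun h (.inl 0)) (.inl 0)

theorem scalar_zero {c : F} (h : c • (1 : M4) = 0) : c = 0 := by
  simpa using congrFun (congrFun h (.inl 0)) (.inl 0)

variable {f}

theorem X_vec5 (h2 : (2 : F) ≠ 0) (hR : R ≤ Cfsg.spGL 2 F) (i : Fin 5) : X (vec5 f i) = (inv5 f i).1 := by
  obtain ⟨j, hj⟩ : ∃ j : Fin 5, j ≠ i := exists_ne i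
  exact X_co h2 (isA_of_invol h2 (hR (inv5_mem f i)) (inv5_sq f i) (inv5_anti f hj))

theorem vec5_norm (h2 : (2 : F) ≠ 0) (hR : R ≤ Cfsg.spGL 2 F) (i : Fin 5) : Q5 (vec5 f i) = 1 :=
  scalar_one (by rw [← X_sq, X_vec5 h2 hR, ← Units.val_mul, inv5_sq, Units.val_one])

theorem vec5_orth (h2 : (2 : F) ≠ 0) (hR : R ≤ Cfsg.spGL 2 F) {i j : Fin 5} (hij : i ≠ j) :
    polar Q5 (vec5 f i) (vec5 f j) = 0 :=
  scalar_zero (by
    rw [← X_anti, X_vec5 h2 hR, X_vec5 h2 hR, ← Units.val_mul, ← Units.val_mul, inv5_anti f hij, Units.val_neg,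
      neg_add_cancel])

/-- The coordinate map of the orthonormal basis. -/
theorem exists_coord (h2 : (2 : F) ≠ 0) (hR : R ≤ Cfsg.spGL 2 F) :
    ∃ Φ : (Fin 5 → F) ≃ₗ[F] (Unit ⊕ (Fin 2 ⊕ Fin 2) → F),
      (∀ i, Φ (ee i) = vec5 f i) ∧ ∀ x, Q5 (Φ x) = x ⬝ᵥ x := by
  classical
  let L : (Fin 5 → F) →ₗ[F] V5 := Fintype.linearCombination F (vec5 f)
  have hL : ∀ x, L x = ∑ i, x i • vec5 f i := fun x => rfl
  have hpol : ∀ x j, polar Q5 (L x) (vec5 f j) = 2 * x j := fun x j => by
    rw [hL, ← polarBilin_apply_apply, map_sum, LinearMap.sum_apply, Finset.sum_eq_single j]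
    · rw [map_smul, LinearMap.smul_apply, polarBilin_apply_apply, QuadraticMap.polar_self, vec5_norm h2 hR]
      simp [mul_comm]
    · intro i _ hij
      rw [map_smul, LinearMap.smul_apply, polarBilin_apply_apply, vec5_orth h2 hR hij, smul_zero]
    · exact fun h => absurd (Finset.mem_univ j) h
  have hinj : Function.Injective L := fun x y hxy => funext fun j => mul_left_cancel₀ h2 (by
    rw [← hpol, ← hpol, hxy])
  refine ⟨LinearEquiv.ofInjectiveOfFinrankEq L hinj (by simp [Module.finrank_fintype_fun_eq_card]), fun i => ?_,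
    fun x => ?_⟩
  · show L (ee i) = _
    rw [hL]
    simp [Frame.ee_apply, ite_smul]
  · show Q5 (L x) = _
    refine mul_left_cancel₀ h2 ?_
    calc 2 * Q5 (L x) = polarBilin Q5 (L x) (L x) := by
          rw [polarBilin_apply_apply, QuadraticMap.polar_self, two_smul, two_mul]
      _ = ∑ i, x i * polar Q5 (L x) (vec5 f i) := by
          conv_lhs => arg 2; rw [hL]
          simp [map_sum, map_smul]
      _ = _ := by
          rw [dotProduct, Finset.mul_sum]
          exact Finset.sum_congr rfl fun i _ => by rw [hpol]; ring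

theorem invol_cases (h : PauliFour.Sys R) (hR : R ≤ Cfsg.spGL 2 F) {x y : GL4} (hx : x ∈ R) (hxx : x * x = 1)
    (hyx : y * x = -(x * y)) : ∃ i, x = inv5 f i ∨ x = -inv5 f i := by
  classical
  have h2 := h.two
  set w := co x.1 with hw
  have hXw : X w = x.1 := X_co h2 (isA_of_invol h2 (hR hx) hxx hyx)
  by_contra hh
  push Not at hh
  have hperp : ∀ i, polar Q5 w (vec5 f i) = 0 := fun i => by
    have hanti := X_anti w (vec5 f i)
    rw [hXw, X_vec5 h2 hR, ← Units.val_mul, ← Units.val_mul] at hanti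
    rcases h.comm x hx (inv5 f i) (inv5_mem f i) with e | e
    · exfalso
      rw [← e, ← two_smul F, Units.val_mul] at hanti
      set c := 2⁻¹ * polar Q5 w (vec5 f i) with hc
      have h1 : x.1 * (inv5 f i).1 = c • (1 : M4) := by
        rw [hc, ← smul_smul, ← hanti, smul_smul, inv_mul_cancel₀ h2, one_smul]
      have hx1 : x.1 = c • (inv5 f i).1 := by
        calc x.1 = x.1 * ((inv5 f i).1 * (inv5 f i).1) := by
              rw [← Units.val_mul, inv5_sq, Units.val_one, Matrix.mul_one]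
          _ = _ := by rw [← Matrix.mul_assoc, h1, Matrix.smul_mul, Matrix.one_mul]
      have hxsq : x.1 * x.1 = (c * c) • (1 : M4) := by
        rw [hx1, Matrix.smul_mul, Matrix.mul_smul, smul_smul, ← Units.val_mul, inv5_sq, Units.val_one]
      rw [← Units.val_mul, hxx, Units.val_one] at hxsq
      have hc2 : c * c = 1 := scalar_one hxsq.symm
      rcases mul_self_eq_one_iff.1 hc2 with e1 | e1
      · exact (hh i).1 (Units.ext (by rw [hx1, e1, one_smul]))
      · exact (hh i).2 (Units.ext (by rw [hx1, e1, Units.val_neg, neg_one_smul]))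
    · exact scalar_zero (by rw [← hanti, e, Units.val_neg, neg_add_cancel])
  obtain ⟨Φ, hΦ, -⟩ := exists_coord (f := f) h2 hR
  have h0 : w = 0 := (Qo_nondeg (F := F) h2 2).1 w fun v => by
    obtain ⟨z, rfl⟩ := Φ.surjective v
    conv_lhs => rw [pi_eq_sum_univ' z]
    rw [map_sum, map_sum]
    refine Finset.sum_eq_zero fun i _ => ?_
    rw [map_smul, map_smul, show Φ (Pi.single i 1) = vec5 f i from hΦ i, polarBilin_apply_apply, hperp, smul_zero]
  rw [h0, X_zero] at hXw
  exact x.ne_zero hXw.symm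

theorem normalizer_iff (h : PauliFour.Sys R) (hR : R ≤ Cfsg.spGL 2 F) (g : GL4) :
    g ∈ Subgroup.normalizer (R : Set GL4) ↔
      ∀ i, ∃ j, g * inv5 f i * g⁻¹ = inv5 f j ∨ g * inv5 f i * g⁻¹ = -inv5 f j := by
  have := h.fin
  constructor
  · intro hg i
    obtain ⟨j, hj⟩ : ∃ j : Fin 5, j ≠ i := exists_ne i
    refine invol_cases h hR (y := g * inv5 f j * g⁻¹) (PauliFour.conj_mem hg (inv5_mem f i)) ?_ ?_
    · rw [show g * inv5 f i * g⁻¹ * (g * inv5 f i * g⁻¹) = g * (inv5 f i * inv5 f i) * g⁻¹ by group, inv5_sq,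
        mul_one, mul_inv_cancel]
    · rw [show g * inv5 f j * g⁻¹ * (g * inv5 f i * g⁻¹) = g * (inv5 f j * inv5 f i) * g⁻¹ by group,
        show g * inv5 f i * g⁻¹ * (g * inv5 f j * g⁻¹) = g * (inv5 f i * inv5 f j) * g⁻¹ by group,
        inv5_anti f hj, mul_neg, neg_mul]
  · intro hg
    set φ := (MulAut.conj g).toMonoidHom with hφ
    have hi : ∀ i, φ (inv5 f i) ∈ R := fun i => by
      obtain ⟨j, hj | hj⟩ := hg i <;> show g * inv5 f i * g⁻¹ ∈ R <;> rw [hj]
      · exact inv5_mem f j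
      · rw [← neg_one_mul]; exact mul_mem h.neg (inv5_mem f j)
    have ha : φ f.a ∈ R := hi 0
    have hb : φ f.b ∈ R := hi 1
    have hc : φ f.c ∈ R := by
      rw [show f.c = (f.a * f.b)⁻¹ * inv5 f 2 by simp [inv5, mul_assoc], map_mul, map_inv, map_mul]
      exact mul_mem (inv_mem (mul_mem ha hb)) (hi 2)
    have hd : φ f.d ∈ R := by
      rw [show f.d = (f.a * f.b)⁻¹ * inv5 f 3 by simp [inv5, mul_assoc], map_mul, map_inv, map_mul]
      exact mul_mem (inv_mem (mul_mem ha hb)) (hi 3)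
    have hall : ∀ x ∈ R, φ x ∈ R := fun x hx => by
      obtain ⟨u, hu, e⟩ := eq_rep f h hx
      rw [e, map_mul, rep, map_mul, map_mul, map_mul, map_pow, map_pow, map_pow, map_pow]
      refine mul_mem ?_ (mul_mem (mul_mem (mul_mem (pow_mem ha _) (pow_mem hb _)) (pow_mem hc _)) (pow_mem hd _))
      rw [show φ (sc u) = g * sc u * g⁻¹ from rfl, ← sc_comm, mul_inv_cancel_right]
      exact hu
    have hmap : R.map φ = R := Subgroup.eq_of_le_of_card_ge
      (by rintro _ ⟨x, hx, rfl⟩; exact hall x hx)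
      (le_of_eq (Nat.card_congr (R.equivMapOfInjective φ (MulAut.conj g).injective).toEquiv))
    rw [Subgroup.mem_normalizer_iff]
    refine fun x => ⟨fun hx => hall x hx, fun hx => ?_⟩
    obtain ⟨x', hx', e⟩ := (SetLike.ext_iff.1 hmap (g * x * g⁻¹)).2 hx
    rwa [← (MulAut.conj g).injective e]

variable [Fintype F]

/-- The monomial isometries form a subgroup. -/
def monoGroup (F : Type*) [Field F] [Fintype F] : Subgroup (quadIso (Q1 F 5)) where
  carrier := {g | Mono g}
  one_mem' := Frame.mono_one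
  mul_mem' ha hb := ha.mul hb
  inv_mem' {g} hg := by
    show Mono g⁻¹
    rw [show g⁻¹ = g ^ (orderOf g - 1) from inv_eq_of_mul_eq_one_right (by
      rw [← pow_succ', Nat.sub_add_cancel (orderOf_pos g), pow_orderOf_eq_one])]
    clear * - hg
    induction (orderOf g - 1) with
    | zero => exact Frame.mono_one
    | succ k ih => rw [pow_succ]; exact ih.mul hg

theorem pauli_maximal_sys (hp : (Fintype.card F).Prime) (R : Subgroup GL4) (h : PauliFour.Sys R)
    (hR : R ≤ Cfsg.spGL 2 F) (hm : IsOfMinusType 2 R) :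
    IsMaximalIn (Cfsg.spGL 2 F) (subgroupNormalizer R ⊓ Cfsg.spGL 2 F) := by
  classical
  have h2 : (2 : F) ≠ 0 := h.two
  obtain ⟨f⟩ := h.exists_frame (Or.inr fun A hA hA' => by simpa using hm A hA hA')
  obtain ⟨Φ, hΦe, hΦ⟩ := exists_coord (f := f) h2 hR
  let Ψ : quadIso (Q1 F 5) →* quadIso Q5 :=
    { toFun := fun g => ⟨Φ.symm.trans (g.1.trans Φ), fun v => by
        show Q5 (Φ (g.1 (Φ.symm v))) = Q5 v
        rw [hΦ, Frame.dot_map g h2, ← hΦ, LinearEquiv.apply_symm_apply]⟩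
      map_one' := Subtype.ext (LinearEquiv.ext fun v => Φ.apply_symm_apply v)
      map_mul' := fun g g' => Subtype.ext (LinearEquiv.ext fun v => by
        show Φ (g.1 (g'.1 (Φ.symm v))) = Φ (g.1 (Φ.symm (Φ (g'.1 (Φ.symm v)))))
        rw [LinearEquiv.symm_apply_apply]) }
  have hsurj : Function.Surjective Ψ := fun k => by
    refine ⟨⟨Φ.trans (k.1.trans Φ.symm), fun x => ?_⟩, Subtype.ext (LinearEquiv.ext fun v => ?_)⟩
    · show Q1 F 5 (Φ.symm (k.1 (Φ x))) = Q1 F 5 x
      rw [Q1_apply, Q1_apply, ← hΦ, ← hΦ, LinearEquiv.apply_symm_apply, k.2]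
    · show Φ (Φ.symm (k.1 (Φ (Φ.symm v)))) = k.1 v
      rw [LinearEquiv.apply_symm_apply, LinearEquiv.apply_symm_apply]
  have happ : ∀ (g : quadIso (Q1 F 5)) x, (Ψ g).1 (Φ x) = Φ (g.1 x) := fun g x => by
    show Φ (g.1 (Φ.symm (Φ x))) = _
    rw [LinearEquiv.symm_apply_apply]
  have hinj : Function.Injective Ψ := fun g g' e => Subtype.ext (LinearEquiv.ext fun x =>
    Φ.injective (by rw [← happ, ← happ, e]))
  have hC : Subgroup.closure (CfsgLib.Eichler.Sieg Q5) = (commutator (quadIso (Q1 F 5))).map Ψ := by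
    rw [← OmegaSimple.commutator_eq _ (nondeg5 h2) finrank5, _root_.commutator_def, _root_.commutator_def,
      Subgroup.map_commutator _ _ Ψ, Subgroup.map_top_of_surjective _ hsurj]
  refine maximal_of h2 _ ((monoGroup F).map Ψ) (fun g => ?_) ?_ fun K hK hSK k hk hkS => ?_
  · obtain ⟨k, hk⟩ := hsurj (phi h2 g)
    rw [show subgroupNormalizer R = Subgroup.normalizer (R : Set GL4) from rfl, normalizer_iff (f := f) h hR,
      ← hk, Subgroup.mem_map_iff_mem hinj]
    show _ ↔ ∀ i, ∃ j, k.1 (ee i) = ee j ∨ k.1 (ee i) = -ee j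
    refine forall_congr' fun i => exists_congr fun j => or_congr ?_ ?_
    · rw [← Φ.injective.eq_iff, ← happ, hΦe, hΦe, hk, ← X_injective.eq_iff, X_phi h2, X_vec5 h2 hR,
        X_vec5 h2 hR, Units.ext_iff, Units.val_mul, Units.val_mul]
    · rw [← Φ.injective.eq_iff, ← happ, map_neg, hΦe, hΦe, hk, ← X_injective.eq_iff, X_phi h2, ← neg_one_smul F,
        X_smul, X_vec5 h2 hR, X_vec5 h2 hR, neg_one_smul, Units.ext_iff, Units.val_mul, Units.val_mul,
        Units.val_neg]
  · rw [hC, Subgroup.map_le_map_iff_of_injective hinj]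
    intro hle
    obtain ⟨v, hv, hvE⟩ := Frame.exists_not_isE (F := F) (n := 5) h2 (by norm_num)
    have hfr : 5 ≤ finrank F (Fin 5 → F) := by simp
    obtain ⟨g, hg, hgv⟩ := OmegaSimple.transitive' (Q1 F 5) (Frame.nondeg h2) hfr _
      (fun e w he0 he hew g hg => OmegaSimple.eich_mem (Q1 F 5) (Frame.nondeg h2) hfr he0 he hew hg)
      (a := ee 0) (b := v) (by rw [Q1_apply, Frame.ee_norm]; exact one_ne_zero)
      (by rw [Q1_apply, Q1_apply, Frame.ee_norm, hv])
    rw [← OmegaSimple.commutator_eq (Q1 F 5) (Frame.nondeg h2) hfr] at hg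
    have h1 : IsE (g.1 (ee 0)) := hle hg 0
    rw [hgv] at h1
    exact hvE h1
  rw [hC] at hK hSK ⊢
  obtain ⟨g, -, rfl⟩ := hK hk
  have O : Ov (K.comap Ψ) := ⟨h2, fun x hx => (Subgroup.mem_map_iff_mem hinj).1 (hK hx),
    fun x hx hxm => hSK (Subgroup.mem_inf.2 ⟨Subgroup.mem_map_of_mem Ψ hxm, Subgroup.mem_map_of_mem Ψ hx⟩)⟩
  rw [Subgroup.map_le_iff_le_comap]
  exact Frame.overgroup_top_five O hp (g := g) hk fun hm => hkS (Subgroup.mem_map_of_mem Ψ hm)

theorem pauli_maximal_four (hodd : Odd (Fintype.card F)) (hp : (Fintype.card F).Prime)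
    (R : Subgroup GL4) (hs : IsSymplecticTypeGroup 2 R) (hi : ActsAbsolutelyIrreducibly (matrixSet R))
    (hR : R ≤ Cfsg.spGL 2 F) (hc : Nat.card R = 32) (hz : Nat.card (Subgroup.center R) = 2)
    (hm : IsOfMinusType 2 R) :
    IsMaximalIn (Cfsg.spGL 2 F) (subgroupNormalizer R ⊓ Cfsg.spGL 2 F) := by
  classical
  have : Finite R := Nat.finite_of_card_ne_zero (by rw [hc]; norm_num)
  exact pauli_maximal_sys hp R (Sys.of_hyp (CfsgLib.FiniteForms.two_ne_zero_of_odd (F := F) rfl hodd) (by simp) hs hi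
    (Or.inr ⟨hz, by rw [hc]; norm_num⟩)) hR hm

end CfsgLib.MaxSub.SpFive
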