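import Cfsg.Agent.Lib.MaxSub.SpFive.Model
import Cfsg.Agent.Lib.Aschbacher.SympProper
import Cfsg.Prelude.Def_GeometricClasses

/-!
Skew elements with a non-zero scalar square and the planes they define; self-adjoint elements and lines.
-/

set_option autoImplicit false
set_option maxHeartbeats 800000

namespace CfsgLib.MaxSub.SpFive

open Matrix QuadraticMap Module Cfsg.Geo CfsgLib.WittExtension CfsgLib.StdQuadForms CfsgLib.MaxSub.Orth

variable {F : Type*} [Field F]

local notation "ι" => (Fin 2 ⊕ Fin 2)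
local notation "V4" => (Fin 2 ⊕ Fin 2 → F)
local notation "V5" => (Unit ⊕ (Fin 2 ⊕ Fin 2) → F)
local notation "M4" => Matrix (Fin 2 ⊕ Fin 2) (Fin 2 ⊕ Fin 2) F
local notation "GL4" => GL (Fin 2 ⊕ Fin 2) F
local notation "J4" => Matrix.J (Fin 2) F
local notation "Q5" => Qo (F := F) 2

/-- Adjointness in terms of matrices. -/
theorem adj_iff (A B : M4) :
    (∀ u v : V4, Cfsg.sympForm 2 F (A *ᵥ u) v = Cfsg.sympForm 2 F u (B *ᵥ v)) ↔
      Aᵀ * J4 = J4 * B := by
  have e1 : ∀ u v : V4, Cfsg.sympForm 2 F (A *ᵥ u) v = u ⬝ᵥ ((Aᵀ * J4) *ᵥ v) := fun u v => by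
    rw [Cfsg.sympForm, ← Matrix.mulVec_mulVec, Matrix.dotProduct_mulVec u Aᵀ, Matrix.vecMul_transpose]
  have e2 : ∀ u v : V4, Cfsg.sympForm 2 F u (B *ᵥ v) = u ⬝ᵥ ((J4 * B) *ᵥ v) := fun u v => by
    rw [Cfsg.sympForm, Matrix.mulVec_mulVec]
  refine ⟨fun h => ?_, fun h u v => by rw [e1, e2, h]⟩
  ext a b
  have := h (Pi.single a 1) (Pi.single b 1)
  rw [e1, e2] at this
  simpa using this

/-- A skew element with a non-zero scalar square. -/
structure Skew (s : Matrix (Fin 2 ⊕ Fin 2) (Fin 2 ⊕ Fin 2) F) (δ : F) : Prop where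
  two : (2 : F) ≠ 0
  adj : sᵀ * Matrix.J (Fin 2) F = -(Matrix.J (Fin 2) F * s)
  sq : s * s = δ • (1 : Matrix (Fin 2 ⊕ Fin 2) (Fin 2 ⊕ Fin 2) F)
  ne : δ ≠ 0

/-- The vectors whose matrices anticommute with `s`. -/
def plane (s : Matrix (Fin 2 ⊕ Fin 2) (Fin 2 ⊕ Fin 2) F) :
    Submodule F (Unit ⊕ (Fin 2 ⊕ Fin 2) → F) where
  carrier := {v | X v * s = -(s * X v)}
  zero_mem' := by simp [X_zero]
  add_mem' {a b} ha hb := by
    show X (a + b) * s = -(s * X (a + b))
    rw [X_add, Matrix.add_mul, Matrix.mul_add, ha, hb, neg_add]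
  smul_mem' c a ha := by
    show X (c • a) * s = -(s * X (c • a))
    rw [X_smul, Matrix.smul_mul, Matrix.mul_smul, ha, smul_neg]

theorem mem_plane {s : M4} {v : V5} : v ∈ plane s ↔ X v * s = -(s * X v) := Iff.rfl

variable {s : Matrix (Fin 2 ⊕ Fin 2) (Fin 2 ⊕ Fin 2) F} {δ : F}

theorem Skew.ne_zero (S : Skew s δ) : s ≠ 0 := fun h => by
  have h1 := congrFun (congrFun S.sq (.inl 0)) (.inl 0)
  rw [h] at h1
  exact S.ne (by simpa using h1.symm)

theorem Skew.not_comm (S : Skew s δ) : ¬ ∀ v, s * X v = X v * s := fun h => by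
  obtain ⟨c, hc⟩ := scalar_of_comm S.two h
  have h1 := S.adj
  rw [hc, Matrix.transpose_smul, Matrix.transpose_one, Matrix.smul_mul, Matrix.one_mul, Matrix.mul_smul,
    Matrix.mul_one] at h1
  have h3 := congrFun (congrFun h1 (.inl 0)) (.inr 0)
  simp [Matrix.J] at h3
  have h4 : c = 0 := mul_left_cancel₀ S.two (by linear_combination -h3)
  exact S.ne_zero (by rw [hc, h4, zero_smul])

/-- The two parts of a vector. -/
theorem Skew.split (S : Skew s δ) (v : V5) :
    ∃ w ∈ plane s, ∃ c : V5, X c * s = s * X c ∧ w + c = v := by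
  have hI : IsA (s * X v * s) := by
    refine ⟨?_, ?_⟩
    · calc (s * X v * s)ᵀ * J4 = sᵀ * ((X v)ᵀ * (sᵀ * J4)) := by
            simp only [Matrix.transpose_mul, Matrix.mul_assoc]
        _ = -(sᵀ * ((X v)ᵀ * J4) * s) := by rw [S.adj]; simp [Matrix.mul_assoc]
        _ = -(sᵀ * J4 * (X v * s)) := by rw [(isA_X v).1]; simp only [Matrix.mul_assoc]
        _ = _ := by rw [S.adj]; simp [Matrix.mul_assoc]
    · rw [Matrix.trace_mul_comm, ← Matrix.mul_assoc, S.sq, Matrix.smul_mul, Matrix.one_mul,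
        Matrix.trace_smul, (isA_X v).2, smul_zero]
  set τ : V5 := δ⁻¹ • co (s * X v * s) with hτdef
  have hτ : X τ = δ⁻¹ • (s * X v * s) := by rw [hτdef, X_smul, X_co S.two hI]
  have e1 : X τ * s = s * X v := by
    rw [hτ, Matrix.smul_mul, Matrix.mul_assoc _ s s, S.sq, Matrix.mul_smul, Matrix.mul_one, smul_smul,
      inv_mul_cancel₀ S.ne, one_smul]
  have e2 : s * X τ = X v * s := by
    rw [hτ, Matrix.mul_smul, ← Matrix.mul_assoc, ← Matrix.mul_assoc, S.sq, Matrix.smul_mul,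
      Matrix.one_mul, Matrix.smul_mul, smul_smul, inv_mul_cancel₀ S.ne, one_smul]
  refine ⟨(2 : F)⁻¹ • (v - τ), mem_plane.2 ?_, (2 : F)⁻¹ • (v + τ), ?_, ?_⟩
  · rw [X_smul, show v - τ = v + (-1 : F) • τ by module, X_add, X_smul, Matrix.smul_mul, Matrix.mul_smul,
      Matrix.add_mul, Matrix.mul_add, Matrix.smul_mul, Matrix.mul_smul, e1, e2]
    module
  · rw [X_smul, X_add, Matrix.smul_mul, Matrix.mul_smul, Matrix.add_mul, Matrix.mul_add, e1, e2,
      add_comm]
  · rw [← smul_add, show v - τ + (v + τ) = (2 : F) • v by module, smul_smul, inv_mul_cancel₀ S.two, one_smul]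

theorem Skew.perp (S : Skew s δ) {w c : V5} (hw : w ∈ plane s) (hc : X c * s = s * X c) :
    polar (Qo 2) w c = 0 := by
  have h1 : (X w * X c + X c * X w) * s = -(s * (X w * X c + X c * X w)) := by
    rw [Matrix.add_mul, Matrix.mul_assoc, hc, ← Matrix.mul_assoc (X w), mem_plane.1 hw, Matrix.mul_assoc (X c),
      mem_plane.1 hw, Matrix.mul_neg, ← Matrix.mul_assoc (X c) s, hc, Matrix.mul_add]
    simp only [Matrix.neg_mul, Matrix.mul_assoc]
    abel
  rw [X_anti, Matrix.smul_mul, Matrix.one_mul, Matrix.mul_smul, Matrix.mul_one, ← neg_smul] at h1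
  have h3 : (2 * polar (Qo 2) w c) • s = 0 := by
    rw [two_mul, add_smul]
    conv_lhs => arg 1; rw [h1]
    rw [← add_smul, neg_add_cancel, zero_smul]
  exact (mul_eq_zero.1 ((smul_eq_zero.1 h3).resolve_right S.ne_zero)).resolve_left S.two

/-- The perpendicular of the plane. -/
theorem Skew.mem_orth (S : Skew s δ) {c : V5} (hc : c ∈ orth Q5 (plane s)) : X c * s = s * X c := by
  obtain ⟨w, hw, c', hc', rfl⟩ := S.split c
  suffices h : w = 0 by rw [h, zero_add]; exact hc'
  have h1 : ∀ v, polar Q5 w v = 0 := fun v => by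
    obtain ⟨w', hw', c'', hc'', rfl⟩ := S.split v
    have h3 : polar Q5 w' (w + c') = 0 := hc w' hw'
    rw [polar_add_right, S.perp hw' hc', add_zero] at h3
    rw [polar_add_right, S.perp hw hc'', add_zero, polar_comm, h3]
  exact (nondeg5 S.two).1 w h1

theorem Skew.nondeg (S : Skew s δ) : ∀ x ∈ plane s, (∀ y ∈ plane s, polar Q5 x y = 0) → x = 0 := by
  intro x hx h
  refine (nondeg5 S.two).1 x fun v => ?_
  obtain ⟨w, hw, c, hc, rfl⟩ := S.split v
  show polar Q5 x (w + c) = 0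
  rw [polar_add_right, h w hw, S.perp hx hc, add_zero]

/-- The plane has dimension two. -/
theorem Skew.finrank_plane (S : Skew s δ) : finrank F (plane s) = 2 := by
  obtain ⟨w₁, hw₁, hQ1⟩ : ∃ w ∈ plane s, Q5 w ≠ 0 := by
    by_contra hh
    push Not at hh
    refine S.not_comm fun v => ?_
    obtain ⟨w, hw, c, hc, rfl⟩ := S.split v
    have hw0 : w = 0 := S.nondeg w hw fun y hy => polar_eq_zero_of_sing hh hw hy
    rw [hw0, zero_add]; exact hc.symm
  have h11 : polar Q5 w₁ w₁ ≠ 0 := by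
    rw [ReflectionGen.pol_self]; exact mul_ne_zero S.two hQ1
  have hI : IsA (s * X w₁) := by
    refine ⟨?_, ?_⟩
    · calc (s * X w₁)ᵀ * J4 = (X w₁)ᵀ * (sᵀ * J4) := by simp only [Matrix.transpose_mul, Matrix.mul_assoc]
        _ = -((X w₁)ᵀ * J4 * s) := by rw [S.adj]; simp [Matrix.mul_assoc]
        _ = -(J4 * (X w₁ * s)) := by rw [(isA_X w₁).1]; simp only [Matrix.mul_assoc]
        _ = _ := by rw [mem_plane.1 hw₁]; simp [Matrix.mul_assoc]
    · have h := congrArg Matrix.trace (mem_plane.1 hw₁)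
      rw [Matrix.trace_mul_comm, Matrix.trace_neg] at h
      exact mul_left_cancel₀ S.two (by linear_combination h)
  set z := co (s * X w₁) with hz
  have hXz : X z = s * X w₁ := X_co S.two hI
  have hzz : X z * X z = (-(δ * Q5 w₁)) • (1 : M4) := by
    rw [hXz, show s * X w₁ * (s * X w₁) = s * (X w₁ * s) * X w₁ by simp only [Matrix.mul_assoc],
      mem_plane.1 hw₁, Matrix.mul_neg, ← Matrix.mul_assoc s s, S.sq]
    simp [Matrix.mul_assoc, X_sq, smul_smul, mul_comm]
  have hQz : Q5 z = -(δ * Q5 w₁) := by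
    have h := congrFun (congrFun ((X_sq z).symm.trans hzz) (.inl 0)) (.inl 0)
    simpa using h
  have hz0 : z ≠ 0 := fun h => mul_ne_zero S.ne hQ1 (by
    rw [h, QuadraticMap.map_zero] at hQz; linear_combination hQz)
  have hzW : z ∈ plane s := mem_plane.2 (by
    rw [hXz, ← Matrix.mul_assoc s s, Matrix.mul_assoc s (X w₁) s, mem_plane.1 hw₁, Matrix.mul_neg,
      ← Matrix.mul_assoc])
  have hwz : polar Q5 w₁ z = 0 := by
    have h := X_anti w₁ z
    rw [hXz, ← Matrix.mul_assoc, mem_plane.1 hw₁, Matrix.neg_mul, Matrix.mul_assoc, neg_add_cancel] at h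
    have h' := congrFun (congrFun h.symm (.inl 0)) (.inl 0)
    simpa using h'
  have hrest : ∀ w ∈ plane s, polar Q5 w₁ w = 0 → w ∈ Submodule.span F ({w₁, z} : Set V5) := by
    intro w hw h
    have hanti : X w₁ * X w = -(X w * X w₁) := by
      have h1 := X_anti w₁ w
      rw [h, zero_smul] at h1
      exact eq_neg_of_add_eq_zero_left h1
    have hcomm : X z * X w = X w * X z := by
      rw [hXz, Matrix.mul_assoc, hanti, Matrix.mul_neg, ← Matrix.mul_assoc s (X w), ← Matrix.mul_assoc (X w),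
        mem_plane.1 hw, Matrix.neg_mul]
    have h1 := congrArg (fun M => X z * M) (X_anti z w)
    simp only [hcomm, Matrix.mul_add, Matrix.mul_smul, Matrix.mul_one] at h1
    rw [← hcomm, ← Matrix.mul_assoc, hzz, Matrix.smul_mul, Matrix.one_mul, ← two_smul F, smul_smul] at h1
    rw [← X_smul, ← X_smul] at h1
    have h3 := X_injective h1
    refine Submodule.mem_span_pair.2 ⟨0, (2 * -(δ * Q5 w₁))⁻¹ * polar Q5 z w, ?_⟩
    rw [zero_smul, zero_add, mul_smul, ← h3, inv_smul_smul₀]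
    exact mul_ne_zero S.two (neg_ne_zero.2 (mul_ne_zero S.ne hQ1))
  have hspan : plane s = Submodule.span F ({w₁, z} : Set V5) := by
    refine le_antisymm (fun w hw => ?_) (Submodule.span_le.2
      (Set.insert_subset_iff.2 ⟨hw₁, Set.singleton_subset_iff.2 hzW⟩))
    set c := polar Q5 w₁ w / polar Q5 w₁ w₁
    have h := hrest (w - c • w₁) ((plane s).sub_mem hw ((plane s).smul_mem c hw₁)) (by
      rw [polar_sub_right, polar_smul_right, smul_eq_mul, div_mul_cancel₀ _ h11, sub_self])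
    have h' := Submodule.add_mem _ h (Submodule.smul_mem _ c (Submodule.subset_span (Set.mem_insert w₁ {z})))
    simpa using h'
  have hind : LinearIndependent F ![w₁, z] := by
    rw [LinearIndependent.pair_iff]
    intro a b hab
    have h := congrArg (polar Q5 w₁) hab
    rw [polar_add_right, polar_smul_right, polar_smul_right, hwz, QuadraticMap.polar_zero_right, smul_zero,
      add_zero, smul_eq_zero] at h
    have ha := h.resolve_right h11
    rw [ha, zero_smul, zero_add] at hab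
    exact ⟨ha, (smul_eq_zero.1 hab).resolve_right hz0⟩
  have h := finrank_span_eq_card hind
  rw [Fintype.card_fin, Matrix.range_cons, Matrix.range_cons, Matrix.range_empty,
    Set.union_empty, Set.singleton_union] at h
  rw [hspan]; exact h

/-- The stabiliser of the plane. -/
theorem Skew.stab_iff (S : Skew s δ) (g : Cfsg.spGL 2 F) :
    (g.1.1 * s * ((g.1)⁻¹).1 = s ∨ g.1.1 * s * ((g.1)⁻¹).1 = -s) ↔
      phi S.two g ∈ St Q5 (plane s) := by
  set h := g.1.1 * s * ((g.1)⁻¹).1 with hh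
  have hcl : ∀ A B : M4, g.1.1 * A * ((g.1)⁻¹).1 * (g.1.1 * B * ((g.1)⁻¹).1) =
      g.1.1 * (A * B) * ((g.1)⁻¹).1 := fun A B => by
    rw [show g.1.1 * A * ((g.1)⁻¹).1 * (g.1.1 * B * ((g.1)⁻¹).1) =
      g.1.1 * (A * (((g.1)⁻¹).1 * g.1.1) * B) * ((g.1)⁻¹).1 by simp only [Matrix.mul_assoc],
      Units.inv_mul, Matrix.mul_one]
  have hw : ∀ v ∈ plane s, X ((phi S.two g).1 v) * h = -(h * X ((phi S.two g).1 v)) := fun v hv => by
    rw [X_phi, hh, hcl, hcl, mem_plane.1 hv, Matrix.mul_neg, Matrix.neg_mul]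
  constructor
  · intro hs
    refine mem_St fun v hv => mem_plane.2 ?_
    rcases hs with e | e <;> have := hw v hv <;> rw [e] at this
    · exact this
    · rw [Matrix.mul_neg, Matrix.neg_mul, neg_neg] at this
      exact neg_eq_iff_eq_neg.1 this
  · intro hst
    have hW : ∀ v ∈ plane s, X v * h = -(h * X v) := fun v hv => by
      have h1 := (hst ((phi S.two g).1.symm v)).2 (by rwa [LinearEquiv.apply_symm_apply])
      have := hw _ h1
      rwa [LinearEquiv.apply_symm_apply] at this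
    have hC : ∀ c ∈ orth Q5 (plane s), X c * h = h * X c := fun c hc => by
      have h1 := ((St_orth hst) ((phi S.two g).1.symm c)).2 (by rwa [LinearEquiv.apply_symm_apply])
      have e : X c = g.1.1 * X ((phi S.two g).1.symm c) * ((g.1)⁻¹).1 := by
        rw [← X_phi S.two, LinearEquiv.apply_symm_apply]
      rw [e, hh, hcl, hcl, S.mem_orth h1]
    obtain ⟨c, hc⟩ := scalar_of_comm S.two (g := h * s) fun v => by
      obtain ⟨w, hw', c', hc', rfl⟩ := S.split v
      have hc'o : c' ∈ orth Q5 (plane s) := fun y hy => S.perp hy hc'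
      rw [X_add, Matrix.mul_add, Matrix.add_mul]
      congr 1
      · rw [Matrix.mul_assoc, show s * X w = -(X w * s) by rw [mem_plane.1 hw', neg_neg], Matrix.mul_neg,
          ← Matrix.mul_assoc, show h * X w = -(X w * h) by rw [hW w hw', neg_neg], Matrix.neg_mul, neg_neg,
          Matrix.mul_assoc]
      · rw [Matrix.mul_assoc, ← hc', ← Matrix.mul_assoc, ← hC c' hc'o, Matrix.mul_assoc]
    have he : h = (c * δ⁻¹) • s := by
      calc h = δ⁻¹ • (h * s * s) := by
            rw [Matrix.mul_assoc, S.sq, Matrix.mul_smul, Matrix.mul_one, smul_smul, inv_mul_cancel₀ S.ne, one_smul]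
        _ = _ := by rw [hc, Matrix.smul_mul, Matrix.one_mul, smul_smul, mul_comm]
    have hsq : h * h = δ • (1 : M4) := by
      rw [hh, hcl, S.sq, Matrix.mul_smul, Matrix.mul_one, Matrix.smul_mul, Units.mul_inv]
    rw [he, Matrix.smul_mul, Matrix.mul_smul, S.sq, smul_smul, smul_smul] at hsq
    have h1 := congrFun (congrFun hsq (.inl 0)) (.inl 0)
    simp at h1
    have hm : (c * δ⁻¹) * (c * δ⁻¹) = 1 := mul_right_cancel₀ S.ne (by rw [one_mul]; linear_combination h1)
    rcases mul_self_eq_one_iff.1 hm with e | e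
    · exact Or.inl (by rw [he, e, one_smul])
    · exact Or.inr (by rw [he, e, neg_one_smul])

section field

variable {K : Subalgebra F (Matrix (Fin 2 ⊕ Fin 2) (Fin 2 ⊕ Fin 2) F)}

/-- A non-scalar element of a quadratic field spans it with the identity and has no eigenvalue. -/
theorem field_two (hK : IsFieldSubalgebra 2 K) {k : M4} (hk : k ∈ K) (hns : ∀ c : F, k ≠ c • 1) :
    (∀ x ∈ K, ∃ a b : F, x = a • 1 + b • k) ∧
      ∀ a : F, k * k = a • (1 : M4) → ¬ IsSquare a := by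
  refine ⟨fun x hx => ?_, fun a ha hsq => ?_⟩
  · let u : Fin 2 → ↥(Subalgebra.toSubmodule K) := ![⟨1, K.one_mem⟩, ⟨k, hk⟩]
    have hind : LinearIndependent F u := by
      rw [LinearIndependent.pair_iff]
      intro a b hab
      have h := congrArg Subtype.val hab
      simp only [Submodule.coe_add, Submodule.coe_smul, ZeroMemClass.coe_zero] at h
      by_cases hb : b = 0
      · refine ⟨?_, hb⟩
        rw [hb, zero_smul, add_zero, smul_eq_zero] at h
        exact h.resolve_right one_ne_zero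
      · exact absurd (show k = (-(b⁻¹ * a)) • (1 : M4) by
          rw [neg_smul, mul_smul, eq_neg_of_add_eq_zero_left h, smul_neg, neg_neg, inv_smul_smul₀ hb])
          (hns _)
    have hr : finrank F ↥(Subalgebra.toSubmodule K) = 2 := hK.finrank_eq
    have hsp := hind.span_eq_top_of_card_eq_finrank (by rw [Fintype.card_fin, hr])
    have hxs : (⟨x, hx⟩ : ↥(Subalgebra.toSubmodule K)) ∈ Submodule.span F (Set.range u) :=
      hsp ▸ Submodule.mem_top
    obtain ⟨c, hc⟩ := (Submodule.mem_span_range_iff_exists_fun F).1 hxs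
    refine ⟨c 0, c 1, ?_⟩
    have := congrArg Subtype.val hc
    simp [Fin.sum_univ_two, u] at this
    exact this.symm
  · obtain ⟨r, rfl⟩ := hsq
    have hmem : k - r • (1 : M4) ∈ K := K.sub_mem hk (K.smul_mem K.one_mem r)
    obtain ⟨y, -, hy⟩ := hK.inv _ hmem (fun h => hns r (sub_eq_zero.1 h))
    refine hns (-r) ?_
    have h1 : (k + r • (1 : M4)) * (k - r • (1 : M4)) = 0 := by
      rw [Matrix.add_mul, Matrix.mul_sub, Matrix.mul_sub, ha]
      simp [smul_smul]
    have h3 := congrArg (· * y) h1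
    simp only [Matrix.mul_assoc, hy, Matrix.mul_one, Matrix.zero_mul] at h3
    rw [neg_smul]; exact eq_neg_of_add_eq_zero_left h3

theorem mem_norm_of {g : GL4} {k : M4} {μ : F} (hμ : μ ≠ 0) (hg : g.1 * k * (g⁻¹).1 = μ • k)
    (hsp : ∀ x ∈ K, ∃ a b : F, x = a • 1 + b • k) (hk : k ∈ K) : g ∈ subalgebraNormalizer K := by
  have hkg : (g⁻¹).1 * k * g.1 = μ⁻¹ • k := by
    have h1 : μ • ((g⁻¹).1 * k * g.1) = k := by
      rw [← Matrix.smul_mul, ← Matrix.mul_smul, ← hg]
      simp only [← Matrix.mul_assoc, Units.inv_mul, Matrix.one_mul]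
      rw [Matrix.mul_assoc, Units.inv_mul, Matrix.mul_one]
    conv_rhs => rw [← h1]
    rw [inv_smul_smul₀ hμ]
  intro x
  refine ⟨fun hx => ?_, fun hx => ?_⟩
  · obtain ⟨a, b, rfl⟩ := hsp x hx
    rw [Matrix.mul_add, Matrix.add_mul, Matrix.mul_smul, Matrix.mul_one, Matrix.smul_mul, Units.mul_inv,
      Matrix.mul_smul, Matrix.smul_mul, hg]
    exact K.add_mem (K.smul_mem K.one_mem a) (K.smul_mem (K.smul_mem hk μ) b)
  · obtain ⟨a, b, hab⟩ := hsp _ hx
    have hx' : x = a • 1 + b • ((g⁻¹).1 * k * g.1) := by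
      have h1 := congrArg (fun M => (g⁻¹).1 * M * g.1) hab
      simp only [Matrix.mul_add, Matrix.add_mul, Matrix.mul_smul, Matrix.smul_mul, Matrix.mul_one,
        Units.inv_mul] at h1
      rw [← h1]
      simp only [← Matrix.mul_assoc, Units.inv_mul, Matrix.one_mul]
      rw [Matrix.mul_assoc, Units.inv_mul, Matrix.mul_one]
    rw [hx', hkg]
    exact K.add_mem (K.smul_mem K.one_mem a) (K.smul_mem (K.smul_mem hk _) b)

/-- A field with a self-adjoint generator is a line. -/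
theorem exists_line (h2 : (2 : F) ≠ 0) (hK : IsFieldSubalgebra 2 K)
    (hsa : IsSelfAdjointFor (Cfsg.sympForm 2 F) K) :
    ∃ v : V5, ¬ IsSquare (Q5 v) ∧
      ∀ g : Cfsg.spGL 2 F, g.1 ∈ subalgebraNormalizer K ↔ phi h2 g ∈ St Q5 (Submodule.span F {v}) := by
  obtain ⟨k₀, hk₀, hns⟩ : ∃ k ∈ K, ∀ c : F, k ≠ c • (1 : M4) := by
    by_contra hh
    push Not at hh
    have h1 : Subalgebra.toSubmodule K ≤ Submodule.span F {(1 : M4)} := fun x hx => by
      obtain ⟨c, hc⟩ := hh x hx
      exact Submodule.mem_span_singleton.2 ⟨c, hc.symm⟩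
    have h := Submodule.finrank_mono h1
    rw [show finrank F ↥(Subalgebra.toSubmodule K) = 2 from hK.finrank_eq,
      finrank_span_singleton (one_ne_zero : (1 : M4) ≠ 0)] at h
    omega
  have h4 : (4 : F) ≠ 0 := by
    rw [show (4 : F) = 2 * 2 by norm_num]; exact mul_ne_zero h2 h2
  set k := k₀ - (k₀.trace / 4) • (1 : M4) with hk
  have hkK : k ∈ K := K.sub_mem hk₀ (K.smul_mem K.one_mem _)
  have hkn : ∀ c : F, k ≠ c • (1 : M4) := fun c h => hns (c + k₀.trace / 4) (by
    rw [add_smul, ← h, hk, sub_add_cancel])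
  have htr : k.trace = 0 := by
    rw [hk, Matrix.trace_sub, Matrix.trace_smul, Matrix.trace_one]
    simp [h4]
  have hA : IsA k := ⟨(adj_iff k k).1 (hsa k hkK), htr⟩
  have hX := X_co h2 hA
  have hsp := field_two hK hkK hkn
  refine ⟨co k, hsp.2 (Qo 2 (co k)) (by rw [← X_sq, hX]), fun g => ⟨fun hg => ?_, fun hg => ?_⟩⟩
  · refine mem_St fun x hx => ?_
    obtain ⟨c, rfl⟩ := Submodule.mem_span_singleton.1 hx
    rw [map_smul]
    refine Submodule.smul_mem _ _ (Submodule.mem_span_singleton.2 ?_)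
    obtain ⟨a, b, hab⟩ := hsp.1 _ ((hg k).1 hkK)
    have ha : a = 0 := by
      have h1 := congrArg Matrix.trace hab
      rw [Matrix.trace_mul_comm, ← Matrix.mul_assoc, Units.inv_mul, Matrix.one_mul, htr, Matrix.trace_add,
        Matrix.trace_smul, Matrix.trace_smul, htr, Matrix.trace_one] at h1
      simp [h4] at h1
      exact h1
    refine ⟨b, X_injective ?_⟩
    rw [X_phi, X_smul, hX, hab, ha, zero_smul, zero_add]
  · obtain ⟨μ, hμ⟩ := Submodule.mem_span_singleton.1 (maps_of_mem hg (Submodule.mem_span_singleton_self (co k)))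
    have h1 := congrArg X hμ.symm
    rw [X_phi, X_smul, hX] at h1
    refine mem_norm_of (μ := μ) (fun h0 => ?_) h1 hsp.1 hkK
    rw [h0, zero_smul] at h1
    have h3 := congrArg (fun M => ((g.1)⁻¹).1 * M * g.1.1) h1
    simp only [← Matrix.mul_assoc, Units.inv_mul, Matrix.one_mul, Matrix.mul_zero, Matrix.zero_mul] at h3
    rw [Matrix.mul_assoc, Units.inv_mul, Matrix.mul_one] at h3
    exact hkn 0 (by rw [h3, zero_smul])

/-- A field closed under adjoints but not self-adjoint has a skew generator. -/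
theorem exists_skew_field (h2 : (2 : F) ≠ 0) (hK : IsFieldSubalgebra 2 K)
    (hadj : IsAdjointClosedFor (Cfsg.sympForm 2 F) K)
    (hns : ¬ IsSelfAdjointFor (Cfsg.sympForm 2 F) K) :
    ∃ (s : M4) (δ : F), Skew s δ ∧ ∀ g : Cfsg.spGL 2 F, g.1 ∈ subalgebraNormalizer K ↔
      (g.1.1 * s * ((g.1)⁻¹).1 = s ∨ g.1.1 * s * ((g.1)⁻¹).1 = -s) := by
  unfold IsSelfAdjointFor at hns
  push Not at hns
  obtain ⟨k, hk, u₀, v₀, hne⟩ := hns
  obtain ⟨k', hk', hkk'⟩ := hadj k hk
  have e1 := (adj_iff k k').1 hkk'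
  have e2 : k'ᵀ * J4 = J4 * k := by
    have h := congrArg Matrix.transpose e1
    rw [Matrix.transpose_mul, Matrix.transpose_mul, Matrix.transpose_transpose, Matrix.J_transpose,
      Matrix.neg_mul, Matrix.mul_neg, neg_inj] at h
    exact h.symm
  set s := k - k' with hs
  have hsK : s ∈ K := K.sub_mem hk hk'
  have hs0 : s ≠ 0 := fun h => hne (by rw [hkk', ← sub_eq_zero.1 h])
  have hsA : sᵀ * J4 = -(J4 * s) := by
    rw [hs, Matrix.transpose_sub, Matrix.sub_mul, e1, e2, Matrix.mul_sub, neg_sub]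
  have hsn : ∀ c : F, s ≠ c • (1 : M4) := fun c h => by
    have h1 := hsA
    rw [h, Matrix.transpose_smul, Matrix.transpose_one, Matrix.smul_mul, Matrix.one_mul, Matrix.mul_smul,
      Matrix.mul_one] at h1
    have h3 := congrFun (congrFun h1 (.inl 0)) (.inr 0)
    simp [Matrix.J] at h3
    exact hs0 (by rw [h, show c = 0 from mul_left_cancel₀ h2 (by linear_combination -h3), zero_smul])
  obtain ⟨hsp, hnsq⟩ := field_two hK hsK hsn
  obtain ⟨β, α, hss⟩ := hsp _ (K.mul_mem hsK hsK)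
  have hα : α = 0 := by
    have h1 : (s * s)ᵀ * J4 = J4 * (s * s) := by
      rw [Matrix.transpose_mul, Matrix.mul_assoc, hsA, Matrix.mul_neg, ← Matrix.mul_assoc, hsA,
        Matrix.neg_mul, neg_neg, Matrix.mul_assoc]
    rw [hss, Matrix.transpose_add, Matrix.transpose_smul, Matrix.transpose_smul, Matrix.transpose_one,
      Matrix.add_mul, Matrix.smul_mul, Matrix.one_mul, Matrix.smul_mul, hsA, Matrix.mul_add, Matrix.mul_smul,
      Matrix.mul_one, Matrix.mul_smul] at h1
    have h3 : (2 * α) • (J4 * s) = 0 := by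
      have h4 := add_left_cancel h1
      rw [smul_neg, neg_eq_iff_add_eq_zero, ← two_smul F, smul_smul] at h4
      exact h4
    have hJs : J4 * s ≠ 0 := fun h => hs0 (by
      have := congrArg (fun M => (J4)⁻¹ * M) h
      simpa [← Matrix.mul_assoc, Matrix.nonsing_inv_mul _ (Matrix.isUnit_det_J (Fin 2) F)] using this)
    exact (mul_eq_zero.1 ((smul_eq_zero.1 h3).resolve_right hJs)).resolve_left h2
  rw [hα, zero_smul, add_zero] at hss
  have S : Skew s β := ⟨h2, hsA, hss, fun h0 => hnsq β hss (h0 ▸ IsSquare.zero)⟩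
  refine ⟨s, β, S, fun g => ⟨fun hg => ?_, fun hg => ?_⟩⟩
  · obtain ⟨a, b, hab⟩ := hsp _ ((hg s).1 hsK)
    have hab2 : (g.1.1 * s * ((g.1)⁻¹).1) * (g.1.1 * s * ((g.1)⁻¹).1) = β • (1 : M4) := by
      rw [show g.1.1 * s * ((g.1)⁻¹).1 * (g.1.1 * s * ((g.1)⁻¹).1) =
        g.1.1 * (s * (((g.1)⁻¹).1 * g.1.1) * s) * ((g.1)⁻¹).1 by simp only [Matrix.mul_assoc],
        Units.inv_mul, Matrix.mul_one, hss, Matrix.mul_smul, Matrix.mul_one, Matrix.smul_mul, Units.mul_inv]
    rw [hab, Matrix.add_mul, Matrix.mul_add, Matrix.mul_add] at hab2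
    simp only [Matrix.smul_mul, Matrix.mul_smul, Matrix.one_mul, Matrix.mul_one, hss, smul_smul] at hab2
    have h3 : (a * a + b * b * β - β) • (1 : M4) + (2 * (a * b)) • s = 0 := by
      rw [← sub_eq_zero] at hab2
      rw [← hab2]; module
    have hab0 : 2 * (a * b) = 0 := by
      by_contra h
      refine hsn (-((2 * (a * b))⁻¹ * (a * a + b * b * β - β))) ?_
      rw [neg_smul, mul_smul, eq_neg_of_add_eq_zero_left h3, smul_neg, neg_neg, inv_smul_smul₀ h]
    rw [hab0, zero_smul, add_zero, smul_eq_zero] at h3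
    have h4 : a * a + b * b * β - β = 0 := h3.resolve_right one_ne_zero
    rcases mul_eq_zero.1 ((mul_eq_zero.1 hab0).resolve_left h2) with ha | hb
    · rw [ha, zero_smul, zero_add] at hab
      have hb1 : b * b = 1 := mul_right_cancel₀ S.ne (by rw [one_mul]; linear_combination h4 - a * ha)
      rcases mul_self_eq_one_iff.1 hb1 with e | e
      · exact Or.inl (by rw [hab, e, one_smul])
      · exact Or.inr (by rw [hab, e, neg_one_smul])
    · exact absurd ⟨a, by linear_combination -h4 + b * β * hb⟩ (hnsq β hss)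
  · rcases hg with e | e
    · exact mem_norm_of (μ := 1) one_ne_zero (by rw [e, one_smul]) hsp hsK
    · exact mem_norm_of (μ := -1) (neg_ne_zero.2 one_ne_zero) (by rw [e, neg_one_smul]) hsp hsK

end field

/-- A pair of complementary Lagrangians has a skew element. -/
theorem exists_skew_pair (h2 : (2 : F) ≠ 0) (D : Fin 2 → Submodule F V4) (hD : IsMDecomposition 2 D)
    (hts : ∀ i, IsTotallySingularFor (Cfsg.sympForm 2 F) (D i)) :
    ∃ (s : M4), Skew s 1 ∧ ∀ g : Cfsg.spGL 2 F, g.1 ∈ decompositionStabilizer D ↔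
      (g.1.1 * s * ((g.1)⁻¹).1 = s ∨ g.1.1 * s * ((g.1)⁻¹).1 = -s) := by
  have hc : IsCompl (D 0) (D 1) := by
    have h1 : Disjoint (D 0) (D 1) := hD.indep.pairwiseDisjoint (by decide)
    refine ⟨h1, codisjoint_iff.2 (Submodule.eq_top_of_finrank_eq ?_)⟩
    have h2 := Submodule.finrank_sup_add_finrank_inf_eq (D 0) (D 1)
    rw [h1.eq_bot, finrank_bot, hD.finrank_eq 0, hD.finrank_eq 1] at h2
    rw [Module.finrank_fintype_fun_eq_card, Fintype.card_sum, Fintype.card_fin]
    omega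
  set L : V4 →ₗ[F] V4 := LinearMap.ofIsCompl hc (D 0).subtype (-(D 1).subtype) with hLdef
  have hL0 : ∀ x ∈ D 0, L x = x := fun x hx => by
    simpa using LinearMap.ofIsCompl_apply_left (φ := (D 0).subtype) (ψ := -(D 1).subtype) hc ⟨x, hx⟩
  have hL1 : ∀ x ∈ D 1, L x = -x := fun x hx => by
    simpa using LinearMap.ofIsCompl_apply_right (φ := (D 0).subtype) (ψ := -(D 1).subtype) hc ⟨x, hx⟩
  have hsplit : ∀ v : V4, ∃ a ∈ D 0, ∃ b ∈ D 1, a + b = v := fun v =>
    Submodule.mem_sup.1 (hc.sup_eq_top ▸ Submodule.mem_top)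
  set s : M4 := LinearMap.toMatrix' L with hsdef
  have hsv : ∀ v : V4, s *ᵥ v = L v := fun v => LinearMap.toMatrix'_mulVec L v
  have hf := CfsgLib.Aschbacher.isRefl_sympForm (F := F) 2
  have hA : ∀ u v : V4, Cfsg.sympForm 2 F (s *ᵥ u) v = Cfsg.sympForm 2 F u ((-s) *ᵥ v) := by
    intro u v
    rw [Matrix.neg_mulVec, hsv, hsv]
    obtain ⟨a, ha, b, hb, rfl⟩ := hsplit u
    obtain ⟨a', ha', b', hb', rfl⟩ := hsplit v
    simp only [map_add, hL0 a ha, hL1 b hb, hL0 a' ha', hL1 b' hb', neg_add_rev, neg_neg]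
    have hneg : ∀ x y : V4, Cfsg.sympForm 2 F (-x) y = -Cfsg.sympForm 2 F x y := fun x y => by
      rw [← neg_one_smul F x, hf.sesq.smul_left]; ring
    have hneg' : ∀ x y : V4, Cfsg.sympForm 2 F x (-y) = -Cfsg.sympForm 2 F x y := fun x y => by
      rw [← neg_one_smul F y, hf.sesq.smul_right]; simp
    simp only [hf.sesq.add_left, hf.sesq.add_right, hneg, hneg', hts 0 a ha a' ha', hts 1 b hb b' hb']
    ring
  have S : Skew s 1 := ⟨h2, by rw [(adj_iff s (-s)).1 hA, Matrix.mul_neg], by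
    rw [one_smul]
    refine Matrix.ext_of_mulVec_single fun i => ?_
    rw [← Matrix.mulVec_mulVec, Matrix.one_mulVec, hsv, hsv]
    obtain ⟨a, ha, b, hb, hab⟩ := hsplit (Pi.single i 1)
    rw [← hab, map_add, hL0 a ha, hL1 b hb, map_add, map_neg, hL0 a ha, hL1 b hb, neg_neg], one_ne_zero⟩
  refine ⟨s, S, fun g => ?_⟩
  have heig : ∀ v : V4, (L v = v → v ∈ D 0) ∧ (L v = -v → v ∈ D 1) := fun v => by
    obtain ⟨a, ha, b, hb, rfl⟩ := hsplit v
    rw [map_add, hL0 a ha, hL1 b hb]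
    refine ⟨fun h => ?_, fun h => ?_⟩
    · have : (2 : F) • b = 0 := by
        rw [← sub_eq_zero] at h
        rw [← neg_eq_zero, ← h]; module
      rw [(smul_eq_zero.1 this).resolve_left h2, add_zero]; exact ha
    · have : (2 : F) • a = 0 := by
        rw [← sub_eq_zero] at h
        rw [← h]; module
      rw [(smul_eq_zero.1 this).resolve_left h2, zero_add]; exact hb
  have hconj : ∀ t : M4, g.1.1 * s * ((g.1)⁻¹).1 = t ↔ g.1.1 * s = t * g.1.1 := fun t =>
    ⟨fun h => by rw [← h, Matrix.mul_assoc _ _ g.1.1, Units.inv_mul, Matrix.mul_one],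
      fun h => by rw [h, Matrix.mul_assoc, Units.mul_inv, Matrix.mul_one]⟩
  have hinj : Function.Injective (Matrix.toLin' g.1.1) := by
    intro x y h
    rw [Matrix.toLin'_apply, Matrix.toLin'_apply] at h
    exact Matrix.mulVec_injective_iff_isUnit.2 g.1.isUnit h
  constructor
  · rintro ⟨σ, hσ⟩
    have hg : ∀ i, ∀ x ∈ D i, g.1.1 *ᵥ x ∈ D (σ i) := fun i x hx => by
      rw [← hσ i, ← Matrix.toLin'_apply]; exact Submodule.mem_map_of_mem hx
    have hext : ∀ t : M4, (∀ i, ∀ x ∈ D i, g.1.1 *ᵥ (s *ᵥ x) = t *ᵥ (g.1.1 *ᵥ x)) → g.1.1 * s = t * g.1.1 := by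
      intro t ht
      refine Matrix.ext_of_mulVec_single fun i => ?_
      obtain ⟨a, ha, b, hb, hab⟩ := hsplit (Pi.single i 1)
      rw [← hab, ← Matrix.mulVec_mulVec, ← Matrix.mulVec_mulVec]
      simp only [Matrix.mulVec_add]
      rw [ht 0 a ha, ht 1 b hb]
    have hne := σ.injective.ne (show (0 : Fin 2) ≠ 1 by decide)
    by_cases h0 : σ 0 = 0
    · have h1 : σ 1 = 1 := by omega
      refine Or.inl ((hconj _).2 (hext s ?_))
      refine Fin.forall_fin_two.2 ⟨fun x hx => ?_, fun x hx => ?_⟩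
      · rw [hsv, hsv, hL0 x hx, hL0 _ (h0 ▸ hg 0 x hx)]
      · rw [hsv, hsv, hL1 x hx, hL1 _ (h1 ▸ hg 1 x hx), Matrix.mulVec_neg]
    · have h0' : σ 0 = 1 := by omega
      have h1 : σ 1 = 0 := by omega
      refine Or.inr ((hconj _).2 (hext (-s) ?_))
      refine Fin.forall_fin_two.2 ⟨fun x hx => ?_, fun x hx => ?_⟩
      · rw [hsv, Matrix.neg_mulVec, hsv, hL0 x hx, hL1 _ (h0' ▸ hg 0 x hx), neg_neg]
      · rw [hsv, Matrix.neg_mulVec, hsv, hL1 x hx, hL0 _ (h1 ▸ hg 1 x hx), Matrix.mulVec_neg]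
  · intro h
    have hmap : ∀ i j, (∀ x ∈ D i, g.1.1 *ᵥ x ∈ D j) → (D i).map (Matrix.toLin' g.1.1) = D j := by
      intro i j hij
      refine Submodule.eq_of_le_of_finrank_eq ?_ ?_
      · rintro _ ⟨x, hx, rfl⟩
        rw [Matrix.toLin'_apply]; exact hij x hx
      · rw [hD.finrank_eq, ← LinearEquiv.finrank_eq (Submodule.equivMapOfInjective _ hinj (D i)), hD.finrank_eq]
    rcases h with e | e
    · refine ⟨1, Fin.forall_fin_two.2 ⟨hmap 0 0 fun x hx => (heig _).1 ?_, hmap 1 1 fun x hx => (heig _).2 ?_⟩⟩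
      all_goals rw [← hsv, Matrix.mulVec_mulVec, ← (hconj s).1 e, ← Matrix.mulVec_mulVec, hsv]
      · rw [hL0 x hx]
      · rw [hL1 x hx, Matrix.mulVec_neg]
    · refine ⟨Equiv.swap 0 1, Fin.forall_fin_two.2 ⟨hmap 0 1 fun x hx => (heig _).2 ?_,
        hmap 1 0 fun x hx => (heig _).1 ?_⟩⟩
      all_goals
        have h1 := congrArg (· *ᵥ x) ((hconj (-s)).1 e)
        simp only [← Matrix.mulVec_mulVec, Matrix.neg_mulVec, hsv] at h1
      · rw [hL0 x hx] at h1
        rw [← neg_eq_iff_eq_neg, ← h1]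
      · rw [hL1 x hx, Matrix.mulVec_neg] at h1
        exact (neg_inj.1 h1).symm

end CfsgLib.MaxSub.SpFive
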